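import Mathlib
import Cfsg.Agent.TID.GDefs
import Cfsg.Agent.Lib.LocalCore
import Cfsg.Agent.S0058
import Cfsg.Agent.S0044

/-!
# TID, cross characteristic rows: elementary facts about radical TI subgroups (helper30)
-/

set_option autoImplicit false

namespace Cfsg.Agent.TID.X

open Cfsg Subgroup Cfsg.Agent.Lib
open scoped Pointwise

universe u

variable {X : Type u} [Group X]

/-- the centraliser of a nontrivial element of a TI subgroup normalises it -/
theorem cent_le {D : Subgroup X} (h : TI D) {v : X} (hv : v ∈ D) (hv1 : v ≠ 1) :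
    centralizer ({v} : Set X) ≤ normalizer (D : Set X) := by
  intro g hg
  by_contra hn
  have h1 := h g hn
  have h2 : v ∈ D ⊓ (MulAut.conj g • D) := by
    refine ⟨hv, ?_⟩
    rw [mem_centralizer_singleton_iff] at hg
    have h3 : v = MulAut.conj g • v := by
      rw [MulAut.smul_def, MulAut.conj_apply, hg, mul_inv_cancel_right]
    rw [h3]
    exact smul_mem_pointwise_smul _ _ _ hv
  rw [h1] at h2
  exact hv1 (mem_bot.1 h2)

theorem mem_norm {D : Subgroup X} (h : TI D) {v g : X} (hv : v ∈ D) (hv1 : v ≠ 1) (hg : g * v = v * g) :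
    g ∈ normalizer (D : Set X) :=
  cent_le h hv hv1 (mem_centralizer_singleton_iff.2 hg)

theorem conj_mem {D : Subgroup X} {g d : X} (hg : g ∈ normalizer (D : Set X)) (hd : d ∈ D) : g * d * g⁻¹ ∈ D :=
  (hg d).1 hd

/-- the normaliser of `H` normalises the characteristic subgroups of `H` -/
theorem norm_map_char {H : Subgroup X} (K : Subgroup H) [hK : K.Characteristic] :
    normalizer (H : Set X) ≤ normalizer ((K.map H.subtype : Subgroup X) : Set X) := by
  rw [le_normalizer_iff]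
  rintro g hg _ ⟨k, hk, rfl⟩
  have h1 : H.normalizerMonoidHom ⟨g, hg⟩ k ∈ K :=
    characteristic_iff_le_comap.1 hK (H.normalizerMonoidHom ⟨g, hg⟩) hk
  exact ⟨_, h1, rfl⟩

/-- an element of a `p`-group and of a group of order prime to `p` -/
theorem eq_one_of_coprime [Finite X] {p : ℕ} {D Y : Subgroup X} (hD : IsPGroup p D)
    (hY : (Nat.card Y).Coprime p) {x : X} (h1 : x ∈ D) (h2 : x ∈ Y) : x = 1 := by
  obtain ⟨k, hk⟩ := hD ⟨x, h1⟩
  have h3 : x ^ p ^ k = 1 := congrArg Subtype.val hk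
  have h4 : orderOf x ∣ p ^ k := orderOf_dvd_of_pow_eq_one h3
  have h5 : orderOf x ∣ Nat.card Y := orderOf_dvd_natCard Y h2
  have h6 : orderOf x ∣ 1 := by
    rw [← (hY.pow_right k)]
    exact Nat.dvd_gcd h5 h4
  exact orderOf_eq_one_iff.1 (Nat.dvd_one.1 h6)

theorem coprime_of_pgroup [Finite X] {p r : ℕ} [hp : Fact p.Prime] [hr : Fact r.Prime] (hpr : p ≠ r)
    {R : Subgroup X} (hR : IsPGroup r R) : (Nat.card R).Coprime p := by
  obtain ⟨k, hk⟩ := IsPGroup.iff_card.1 hR
  rw [hk]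
  exact Nat.Coprime.pow_left _ ((Nat.coprime_primes hr.out hp.out).2 hpr.symm)

/-- a `p'`-subgroup normalised by a noncyclic abelian subgroup of `D` normalises `D` -/
theorem le_norm [Finite X] {p : ℕ} [Fact p.Prime] {D V Y : Subgroup X} (hD : IsPGroup p D) (h : TI D) (hVD : V ≤ D)
    [IsMulCommutative V] (hV : ¬ IsCyclic V) (hVY : V ≤ normalizer (Y : Set X)) (hY : (Nat.card Y).Coprime p) :
    Y ≤ normalizer (D : Set X) := by
  obtain ⟨k, hk⟩ := IsPGroup.iff_card.1 (hD.to_le hVD)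
  have h1 := S0058.result V Y hV hVY (by rw [hk]; exact (hY.pow_right k).symm)
  rw [← h1]
  refine iSup_le fun a => iSup_le fun ha => ?_
  exact inf_le_right.trans (cent_le h (hVD ha.1) ha.2)

/-- a `p'`-subgroup normalised by a noncyclic abelian subgroup `V` of `D` is centralised by `V` -/
theorem comm_of_norm [Finite X] {p : ℕ} [Fact p.Prime] {D V Y : Subgroup X} (hD : IsPGroup p D) (h : TI D)
    (hVD : V ≤ D) [IsMulCommutative V] (hV : ¬ IsCyclic V) (hVY : V ≤ normalizer (Y : Set X))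
    (hY : (Nat.card Y).Coprime p) {y v : X} (hy : y ∈ Y) (hv : v ∈ V) : y * v = v * y := by
  have h1 : y * v * y⁻¹ * v⁻¹ ∈ D := mul_mem (conj_mem (le_norm hD h hVD hV hVY hY hy) (hVD hv)) (inv_mem (hVD hv))
  have h2 : y * v * y⁻¹ * v⁻¹ ∈ Y := by
    have h3 : y * v * y⁻¹ * v⁻¹ = y * (v * y⁻¹ * v⁻¹) := by group
    rw [h3]
    exact mul_mem hy (conj_mem (hVY hv) (inv_mem hy))
  have h3 := eq_one_of_coprime hD hY h1 h2
  calc y * v = (y * v * y⁻¹ * v⁻¹) * (v * y) := by group
    _ = v * y := by rw [h3, one_mul]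

/-- an elementary abelian group of order `p ^ 2` is not cyclic -/
theorem not_cyclic {p : ℕ} [hp : Fact p.Prime] {V : Subgroup X} (hV : ∀ v ∈ V, v ^ p = 1) (hc : p < Nat.card V) :
    ¬ IsCyclic V := by
  intro h
  have h1 : Monoid.exponent V = Nat.card V := IsCyclic.exponent_eq_card
  have h2 : Monoid.exponent V ∣ p := by
    rw [Monoid.exponent_dvd_iff_forall_pow_eq_one]
    intro v
    exact Subtype.ext (hV v v.2)
  rw [h1] at h2
  exact absurd (Nat.le_of_dvd hp.out.pos h2) (not_le.2 hc)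

theorem Rk2.exists {p : ℕ} [hp : Fact p.Prime] {D : Subgroup X} (h : Rk2 p D) :
    ∃ V : Subgroup X, V ≤ D ∧ IsMulCommutative V ∧ ¬ IsCyclic V ∧ (∀ v ∈ V, v ^ p = 1) ∧ Nat.card V = p ^ 2 := by
  obtain ⟨V, h1, h2, h3⟩ := h
  refine ⟨V, h1, h2.1, not_cyclic h2.2 ?_, h2.2, h3⟩
  rw [h3, pow_two]
  exact lt_mul_of_one_lt_left hp.out.pos hp.out.one_lt

theorem exists_ne_one {V : Subgroup X} (hV : ¬ IsCyclic V) : ∃ v ∈ V, v ≠ 1 := by
  by_contra h
  push Not at h
  apply hV
  have : Subsingleton V := ⟨fun a b => Subtype.ext ((h a a.2).trans (h b b.2).symm)⟩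
  infer_instance

/-- an element centralising the socle is trivial -/
theorem Soc.eq_one {S : Subgroup X} (h : Soc S) {x : X} (hx : ∀ s ∈ S, s * x = x * s) : x = 1 := by
  have h1 : x ∈ centralizer (S : Set X) := fun s hs => hx s hs
  rw [h.cent] at h1
  exact mem_bot.1 h1

/-- `N(D)` normalises `C_S(D)` -/
theorem norm_C {S D : Subgroup X} (hS : S.Normal) :
    normalizer (D : Set X) ≤ normalizer ((S ⊓ centralizer (D : Set X) : Subgroup X) : Set X) := by
  rw [le_normalizer_iff]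
  rintro g hg c ⟨hc1, hc2⟩
  refine ⟨hS.conj_mem c hc1 g, fun d hd => ?_⟩
  have h1 : g⁻¹ * d * g⁻¹⁻¹ ∈ D := conj_mem (inv_mem hg) hd
  have h2 := hc2 _ h1
  calc d * (g * c * g⁻¹) = g * ((g⁻¹ * d * g⁻¹⁻¹) * c) * g⁻¹ := by group
    _ = g * (c * (g⁻¹ * d * g⁻¹⁻¹)) * g⁻¹ := by rw [h2]
    _ = g * c * g⁻¹ * d := by group

/-- `S` does not normalise `D` -/
theorem AS.not_le [Finite X] {p : ℕ} [Fact p.Prime] {S D : Subgroup X} (h : AS p S D) :
    ¬ S ≤ normalizer (D : Set X) := by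
  intro hle
  have hn := h.soc.normal
  have hs := h.soc.simple
  have h1 : (D.subgroupOf S).Normal := by
    refine ⟨fun d hd s => ?_⟩
    rw [mem_subgroupOf] at hd ⊢
    exact conj_mem (hle s.2) hd
  obtain ⟨V, hVD, -, hV, -, -⟩ := Rk2.exists h.loc.rk
  obtain ⟨v, hv, hv1⟩ := exists_ne_one hV
  rcases h1.eq_bot_or_eq_top with h2 | h2
  · apply hv1
    refine Soc.eq_one h.soc fun s hs' => ?_
    have h3 : s * v * s⁻¹ * v⁻¹ ∈ S := by
      have h4 : s * v * s⁻¹ * v⁻¹ = s * (v * s⁻¹ * v⁻¹) := by group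
      rw [h4]
      exact mul_mem hs' (hn.conj_mem _ (inv_mem hs') v)
    have h4 : (⟨_, h3⟩ : S) ∈ D.subgroupOf S := by
      rw [mem_subgroupOf]
      exact mul_mem (conj_mem (hle hs') (hVD hv)) (inv_mem (hVD hv))
    rw [h2, mem_bot] at h4
    have h5 : s * v * s⁻¹ * v⁻¹ = 1 := congrArg Subtype.val h4
    calc s * v = (s * v * s⁻¹ * v⁻¹) * (v * s) := by group
      _ = v * s := by rw [h5, one_mul]
  · have h3 : S ≤ D := subgroupOf_eq_top.1 h2
    have h4 : IsPGroup p S := h.loc.pgrp.to_le h3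
    have h5 : Group.IsNilpotent S := h4.isNilpotent
    have h6 : Group.IsSolvable S := inferInstance
    exact h.soc.nonab ⟨⟨IsSimpleGroup.comm_iff_isSolvable.2 h6⟩⟩

/-- **`CenP` gives the conclusion.** -/
theorem out_of_cenP [Finite X] {p : ℕ} [hp : Fact p.Prime] {S D : Subgroup X} (h : AS p S D) (hc : CenP p S D) :
    Out p S D := by
  refine ⟨?_, Or.inl hc⟩
  have hn := h.soc.normal
  have h1 : S ⊓ centralizer (D : Set X) ≤ D := h.loc.rad _ hc (norm_C hn)
  by_cases hd : p ∣ Nat.card S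
  · letI : MulAction D S := MulAction.compHom S ((MulAut.conjNormal : X →* MulAut S).comp D.subtype)
    have h2 : (1 : S) ∈ MulAction.fixedPoints D S := fun d => map_one (MulAut.conjNormal (d : X) : MulAut S)
    obtain ⟨b, hb, hb1⟩ := h.loc.pgrp.exists_fixed_point_of_prime_dvd_card_of_fixed_point S hd h2
    have h3 : (b : X) ∈ centralizer (D : Set X) := by
      intro d hd'
      have h4 : (MulAut.conjNormal d : MulAut S) b = b := hb ⟨d, hd'⟩
      have h5 := congrArg Subtype.val h4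
      rw [MulAut.conjNormal_apply] at h5
      exact mul_inv_eq_iff_eq_mul.1 h5
    intro h4
    have h5 : (b : X) ∈ D ⊓ S := ⟨h1 ⟨b.2, h3⟩, b.2⟩
    rw [h4] at h5
    exact hb1 (Subtype.ext (mem_bot.1 h5).symm)
  · exfalso
    obtain ⟨V, hVD, hVc, hV, -, -⟩ := Rk2.exists h.loc.rk
    exact AS.not_le h (le_norm h.loc.pgrp h.loc.ti hVD hV le_normalizer_of_normal
      ((Nat.Prime.coprime_iff_not_dvd hp.out).2 hd).symm)

/-- **The solvable case**: `C_S(D)` is solvable and `N(D)` normalises no nontrivial `p'`-subgroup of `C_S(D)`. -/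
theorem cenP_of_solvable [Finite X] {p : ℕ} [hp : Fact p.Prime] {S D : Subgroup X} (h : AS p S D)
    (hsol : Group.IsSolvable ↥(S ⊓ centralizer (D : Set X)))
    (hK : ∀ K : Subgroup X, K ≤ S ⊓ centralizer (D : Set X) → (Nat.card K).Coprime p →
      normalizer (D : Set X) ≤ normalizer (K : Set X) → K = ⊥) : CenP p S D := by
  have hn := h.soc.normal
  obtain ⟨C, hC⟩ : ∃ C : Subgroup X, C = S ⊓ centralizer (D : Set X) := ⟨_, rfl⟩
  have hNC : normalizer (D : Set X) ≤ normalizer (C : Set X) := by rw [hC]; exact norm_C hn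
  unfold CenP
  rw [← hC] at hsol hK ⊢
  have h1 : fittingSubgroup C ≤ pCore p C := by
    rw [Cores.fittingSubgroup_eq_iSup_pCore]
    refine iSup_le fun q => ?_
    by_cases hq : (q : ℕ) = p
    · rw [hq]
    · have : Fact (q : ℕ).Prime := ⟨q.2⟩
      have hch := Cores.pCore_characteristic (G := C) q
      have h2 := hK ((pCore q C).map C.subtype) (map_subtype_le _)
        (coprime_of_pgroup (Ne.symm hq) (LocalCore.isPGroup_map_pCore q C)) (hNC.trans (norm_map_char _))
      rw [Subgroup.map_eq_bot_iff_of_injective _ C.subtype_injective] at h2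
      rw [h2]
      exact bot_le
  have hch := Cores.pCore_characteristic (G := C) p
  have h2 : (pCore p C).map C.subtype ≤ D :=
    h.loc.rad _ (LocalCore.isPGroup_map_pCore p C) (hNC.trans (norm_map_char _))
  rw [← Cores.pCore_eq_top_iff, eq_top_iff]
  intro c _
  refine h1 (S0044.result fun f hf => ?_)
  apply Subtype.ext
  have h3 : (f : X) ∈ D := h2 ⟨f, h1 hf, rfl⟩
  have h4 : (c : X) ∈ S ⊓ centralizer (D : Set X) := by rw [← hC]; exact c.2
  exact h4.2 _ h3

end Cfsg.Agent.TID.X
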