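import Mathlib
import Cfsg.Agent.TID.X.Basic
import Cfsg.Agent.H400.LieLocal
import Cfsg.Agent.OddHalf.Small.RankOne
import Cfsg.Agent.S4613

/-!
# TID, cross characteristic rows: `D` normalises no subgroup of the defining characteristic (helper30)
-/

set_option autoImplicit false

namespace Cfsg.Agent.TID.X

open Cfsg Subgroup Cfsg.Agent.Lib Cfsg.Agent.BpLieP.Big
open scoped Pointwise

universe u

theorem locChar {r : ℕ} [Fact r.Prime] {G : Type*} [Group G] [Finite G] (hG : IsLieTypeChar r G) :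
    LocChar r G := by
  by_cases h : r = 2 ∧ Lie.IsoSuzuki G
  · obtain ⟨rfl, h⟩ := h
    exact (OddHalf.Small.RankOne.sz h).2
  · exact H400.LieLocal.local_char_of_lie hG h

variable {X : Type u} [Group X]

/-- local characteristic `r`, read in an overgroup -/
theorem cent_core_le {r : ℕ} {S R : Subgroup X} (hloc : LocChar r S) (hRS : R ≤ S) (hR : IsPGroup r R)
    (hR1 : R ≠ ⊥) {g : X} (hg : g ∈ S ⊓ normalizer (R : Set X))
    (hc : ∀ o ∈ (pCore r ↥(S ⊓ normalizer (R : Set X))).map (S ⊓ normalizer (R : Set X)).subtype, o * g = g * o) :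
    g ∈ (pCore r ↥(S ⊓ normalizer (R : Set X))).map (S ⊓ normalizer (R : Set X)).subtype := by
  have h0 : R.subgroupOf S ≠ ⊥ := by
    intro h
    apply hR1
    rw [subgroupOf_eq_bot, disjoint_iff, inf_eq_left.2 hRS] at h
    exact h
  have h1 := hloc (R.subgroupOf S) hR.comap_subtype h0
  have hmem : ∀ s : S, s ∈ normalizer ((R.subgroupOf S : Subgroup S) : Set S) ↔ (s : X) ∈ normalizer (R : Set X) := by
    intro s
    rw [← subgroupOf_normalizer_eq hRS, mem_subgroupOf]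
  obtain ⟨N0, hN0⟩ : ∃ N0 : Subgroup S, N0 = normalizer ((R.subgroupOf S : Subgroup S) : Set S) := ⟨_, rfl⟩
  rw [← hN0] at h1 hmem
  -- the image of the core
  obtain ⟨O, hO⟩ : ∃ O : Subgroup X, O = ((pCore r N0).map N0.subtype).map S.subtype := ⟨_, rfl⟩
  have hOle : O ≤ (pCore r ↥(S ⊓ normalizer (R : Set X))).map (S ⊓ normalizer (R : Set X)).subtype := by
    refine LocalCore.le_map_pCore ?_ ?_ ?_
    · rw [hO]
      rintro _ ⟨_, ⟨n, -, rfl⟩, rfl⟩
      exact ⟨(n : S).2, (hmem _).1 n.2⟩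
    · rw [hO]
      exact ((Cores.pCore_isPGroup r).map _).map _
    · rw [le_normalizer_iff, hO]
      rintro t ht _ ⟨_, ⟨n, hn, rfl⟩, rfl⟩
      have h2 := (Cores.pCore_normal (G := N0) r).conj_mem n hn ⟨⟨t, ht.1⟩, (hmem _).2 ht.2⟩
      exact ⟨_, ⟨_, h2, rfl⟩, rfl⟩
  apply hOle
  have h2 : (⟨⟨g, hg.1⟩, (hmem _).2 hg.2⟩ : N0) ∈ pCore r N0 := by
    refine h1 fun n hn => ?_
    apply Subtype.ext
    apply Subtype.ext
    refine hc _ (hOle ?_)
    rw [hO]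
    exact ⟨_, ⟨n, hn, rfl⟩, rfl⟩
  rw [hO]
  exact ⟨_, ⟨_, h2, rfl⟩, rfl⟩

/-- **A noncyclic abelian subgroup of `D` normalises no nontrivial `r`-subgroup of `S`.** -/
theorem f1 [Finite X] {p r : ℕ} [hp : Fact p.Prime] [hr : Fact r.Prime] (hpr : p ≠ r) {S D V R : Subgroup X}
    (h : AS p S D) (hS : IsLieTypeChar r S) (hVD : V ≤ D) [IsMulCommutative V] (hV : ¬ IsCyclic V)
    (hRS : R ≤ S) (hR : IsPGroup r R) (hVR : V ≤ normalizer (R : Set X)) : R = ⊥ := by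
  by_contra hR1
  have hn := h.soc.normal
  have hs := h.soc.simple
  have hloc := locChar hS
  obtain ⟨Q, hRQ, hQ⟩ := Finite.exists_le_maximal
    (p := fun Q : Subgroup X => Q ≤ S ∧ IsPGroup r Q ∧ V ≤ normalizer (Q : Set X)) ⟨hRS, hR, hVR⟩
  obtain ⟨hQS, hQr, hVQ⟩ := hQ.prop
  have hQ1 : Q ≠ ⊥ := fun h1 => hR1 (le_bot_iff.1 (h1 ▸ hRQ))
  obtain ⟨T, hT⟩ : ∃ T : Subgroup X, T = S ⊓ normalizer (Q : Set X) := ⟨_, rfl⟩
  have hVT : V ≤ normalizer (T : Set X) := by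
    rw [le_normalizer_iff, hT]
    rintro v hv t ⟨ht1, ht2⟩
    have h1 : v * t * v⁻¹ ∈ normalizer (Q : Set X) := mul_mem (mul_mem (hVQ hv) ht2) (inv_mem (hVQ hv))
    exact ⟨hn.conj_mem t ht1 v, h1⟩
  have hch := Cores.pCore_characteristic (G := T) r
  have hQO : Q ≤ (pCore r T).map T.subtype :=
    LocalCore.le_map_pCore (by rw [hT]; exact le_inf hQS le_normalizer) hQr (by rw [hT]; exact inf_le_right)
  have hOQ : (pCore r T).map T.subtype ≤ Q :=
    hQ.le_of_ge ⟨(map_subtype_le _).trans (by rw [hT]; exact inf_le_left), LocalCore.isPGroup_map_pCore r T,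
      hVT.trans (norm_map_char _)⟩ hQO
  have hcQ : ∀ g ∈ T, (∀ o ∈ Q, o * g = g * o) → g ∈ Q := by
    intro g hg hc
    subst hT
    exact hOQ (cent_core_le hloc hQS hQr hQ1 hg fun o ho => hc o (hOQ ho))
  have hVc : ∀ y ∈ Q, ∀ v ∈ V, y * v = v * y := fun y hy v hv =>
    comm_of_norm h.loc.pgrp h.loc.ti hVD hV hVQ (coprime_of_pgroup hpr hQr) hy hv
  -- `V` centralises `T`
  have hTc : ∀ g ∈ T, ∀ v ∈ V, g * v = v * g := by
    intro g hg v hv
    have hg' := hg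
    rw [hT] at hg'
    have h1 : g * v * g⁻¹ * v⁻¹ ∈ T := by
      have h2 : g * v * g⁻¹ * v⁻¹ = g * (v * g⁻¹ * v⁻¹) := by group
      rw [h2]
      exact mul_mem hg (conj_mem (hVT hv) (inv_mem hg))
    have h2 : g * v * g⁻¹ * v⁻¹ ∈ Q := by
      refine hcQ _ h1 fun o ho => ?_
      have h3 := hVc _ (conj_mem (inv_mem hg'.2) ho) v hv
      have h4 := hVc o ho v⁻¹ (inv_mem hv)
      calc o * (g * v * g⁻¹ * v⁻¹) = g * ((g⁻¹ * o * g⁻¹⁻¹) * v) * g⁻¹ * v⁻¹ := by group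
        _ = g * (v * (g⁻¹ * o * g⁻¹⁻¹)) * g⁻¹ * v⁻¹ := by rw [h3]
        _ = g * v * g⁻¹ * (o * v⁻¹) := by group
        _ = g * v * g⁻¹ * v⁻¹ * o := by rw [h4]; group
    obtain ⟨k, hk⟩ := h.loc.pgrp ⟨v, hVD hv⟩
    have hk' : v ^ p ^ k = 1 := congrArg Subtype.val hk
    have h3 : Commute (g * v * g⁻¹ * v⁻¹) v := hVc _ h2 v hv
    have h4 : (g * v * g⁻¹ * v⁻¹ * v) ^ p ^ k = 1 := by
      rw [inv_mul_cancel_right, conj_pow, hk', mul_one, mul_inv_cancel]
    rw [h3.mul_pow, hk', mul_one] at h4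
    have h5 : g * v * g⁻¹ * v⁻¹ = 1 := by
      refine eq_one_of_coprime (p := p) (D := zpowers (g * v * g⁻¹ * v⁻¹)) ?_ (coprime_of_pgroup hpr hQr)
        (mem_zpowers _) h2
      rintro ⟨_, m, rfl⟩
      refine ⟨k, Subtype.ext ?_⟩
      change ((g * v * g⁻¹ * v⁻¹) ^ m) ^ p ^ k = 1
      rw [← zpow_natCast, ← zpow_mul, mul_comm, zpow_mul, zpow_natCast, h4, one_zpow]
    calc g * v = (g * v * g⁻¹ * v⁻¹) * (v * g) := by group
      _ = v * g := by rw [h5, one_mul]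
  -- `Q` is a Sylow subgroup of `S`
  obtain ⟨P, hP0⟩ := (hQr.comap_subtype (K := S)).exists_le_sylow
  have hP : Q.subgroupOf S ≤ P := hP0
  have hPQ : ∀ x ∈ (P : Subgroup S), (x : X) ∈ Q := by
    by_contra hne
    push Not at hne
    obtain ⟨x, hx, hxQ⟩ := hne
    have hnil : Group.IsNilpotent (P : Subgroup S) := P.isPGroup'.isNilpotent
    have hlt := Group.normalizerCondition_of_isNilpotent (G := (P : Subgroup S))
      ((Q.subgroupOf S).subgroupOf P) (lt_top_iff_ne_top.2 fun h1 => hxQ (subgroupOf_eq_top.1 h1 hx))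
    obtain ⟨y, hy, hyQ⟩ := SetLike.exists_of_lt hlt
    have hyN : ((y : S) : X) ∈ normalizer (Q : Set X) := by
      rw [← subgroupOf_normalizer_eq hP, mem_subgroupOf, ← subgroupOf_normalizer_eq hQS, mem_subgroupOf] at hy
      exact hy
    have h1 : (P : Subgroup S).map S.subtype ⊓ T ≤ Q := by
      refine hQ.le_of_ge ⟨inf_le_left.trans (map_subtype_le _), (P.isPGroup'.map _).to_le inf_le_left, ?_⟩ ?_
      · rw [le_normalizer_iff]
        intro v hv z hz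
        have h2 : v * z * v⁻¹ = z := by rw [← hTc z hz.2 v hv, mul_inv_cancel_right]
        rwa [h2]
      · intro z hz
        refine ⟨⟨⟨z, hQS hz⟩, hP hz, rfl⟩, ?_⟩
        rw [hT]
        exact ⟨hQS hz, le_normalizer hz⟩
    refine hyQ (h1 ⟨⟨y, y.2, rfl⟩, ?_⟩)
    rw [hT]
    exact ⟨(y : S).2, hyN⟩
  obtain ⟨v, hv, hv1⟩ := exists_ne_one hV
  obtain ⟨k, hk⟩ := h.loc.pgrp ⟨v, hVD hv⟩
  have hk' : v ^ p ^ k = 1 := congrArg Subtype.val hk
  have h1 := S4613.result r hS (MulAut.conjNormal v : MulAut S) (by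
    intro hd
    have h2 : orderOf (MulAut.conjNormal v : MulAut S) ∣ p ^ k :=
      orderOf_dvd_of_pow_eq_one (by rw [← map_pow, hk', map_one])
    exact hpr ((Nat.prime_dvd_prime_iff_eq hr.out hp.out).1 (hr.out.dvd_of_dvd_pow (hd.trans h2))).symm) P (by
    intro x hx
    apply Subtype.ext
    rw [MulAut.conjNormal_apply, ← hVc _ (hPQ x hx) v hv, mul_inv_cancel_right])
  refine hv1 (Soc.eq_one h.soc fun s hs' => ?_)
  have h2 := congrArg Subtype.val (DFunLike.congr_fun h1 ⟨s, hs'⟩)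
  rw [MulAut.conjNormal_apply] at h2
  exact (mul_inv_eq_iff_eq_mul.1 h2).symm

/-- `C_S(V)` has order prime to `r` -/
theorem f1_elt [Finite X] {p r : ℕ} [hp : Fact p.Prime] [hr : Fact r.Prime] (hpr : p ≠ r) {S D V : Subgroup X}
    (h : AS p S D) (hS : IsLieTypeChar r S) (hVD : V ≤ D) [IsMulCommutative V] (hV : ¬ IsCyclic V)
    {a : X} (haS : a ∈ S) {k : ℕ} (ha : a ^ r ^ k = 1) (hc : ∀ v ∈ V, a * v = v * a) : a = 1 := by
  have h1 := f1 hpr h hS hVD hV (R := zpowers a) (zpowers_le.2 haS) (by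
    rintro ⟨_, m, rfl⟩
    refine ⟨k, Subtype.ext ?_⟩
    change (a ^ m) ^ r ^ k = 1
    rw [← zpow_natCast, ← zpow_mul, mul_comm, zpow_mul, zpow_natCast, ha, one_zpow]) (by
    rw [le_normalizer_iff]
    rintro v hv _ ⟨m, rfl⟩
    have h2 : Commute v (a ^ m) := (show Commute v a from (hc v hv).symm).zpow_right m
    change v * a ^ m * v⁻¹ ∈ zpowers a
    rw [h2.eq, mul_inv_cancel_right]
    exact ⟨m, rfl⟩)
  exact zpowers_eq_bot.1 h1

end Cfsg.Agent.TID.X
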