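import Mathlib
import Cfsg.Agent.TID.X.FOne
import Cfsg.Agent.S0205
import Cfsg.Agent.S2188

/-!
# TID: the row `KEven35` (helper30)
-/

set_option autoImplicit false

namespace Cfsg.Agent.TID.X

open Cfsg Subgroup Cfsg.Agent.Lib
open scoped Pointwise

universe u

variable {X : Type u} [Group X]

theorem Soc.conj_injective {S : Subgroup X} [S.Normal] (h : Soc S) :
    Function.Injective (MulAut.conjNormal : X →* MulAut S) := by
  rw [injective_iff_map_eq_one]
  intro v hv
  refine Soc.eq_one h fun s hs => ?_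
  have h2 := congrArg Subtype.val (DFunLike.congr_fun hv ⟨s, hs⟩)
  rw [MulAut.conjNormal_apply] at h2
  exact (mul_inv_eq_iff_eq_mul.1 h2).symm

/-- for `p` odd, `N(D)` normalises no nontrivial `p'`-subgroup of `C_S(D)` -/
theorem core_eq_bot [Finite X] {p r : ℕ} [hp : Fact p.Prime] [hr : Fact r.Prime] (hp2 : p ≠ 2) (hpr : p ≠ r)
    {S D : Subgroup X} (h : AS p S D) (hS : IsLieTypeChar r S) {K : Subgroup X}
    (hK : K ≤ S ⊓ centralizer (D : Set X)) (hKp : (Nat.card K).Coprime p)
    (hKN : normalizer (D : Set X) ≤ normalizer (K : Set X)) : K = ⊥ := by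
  have hn := h.soc.normal
  obtain ⟨V, hVD, hVc, -, hVp, hV2⟩ := Rk2.exists h.loc.rk
  have hinj := Soc.conj_injective h.soc
  rw [eq_bot_iff]
  intro k hk
  have h1 := S2188.result r hS p hp2 hpr (V.map (MulAut.conjNormal : X →* MulAut S)) ⟨?_, ?_⟩ ?_
    ⟨k, (hK hk).1⟩ ?_
  · exact mem_bot.2 (congrArg Subtype.val h1)
  · exact Subgroup.map_isMulCommutative _ _
  · rintro _ ⟨v, hv, rfl⟩
    rw [← map_pow, hVp v hv, map_one]
  · rw [card_map_of_injective hinj, hV2]
  · rintro _ ⟨v, hv, rfl⟩ hv1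
    have hv1' : v ≠ 1 := fun h2 => hv1 (by rw [h2, map_one])
    have hfix : ∀ s : S, s ∈ fixedSubgroup (MulAut.conjNormal v : MulAut S) ↔ v * s = s * v := by
      intro s
      change (MulAut.conjNormal v : MulAut S) s = s ↔ _
      rw [Subtype.ext_iff, MulAut.conjNormal_apply, mul_inv_eq_iff_eq_mul]
    refine ⟨(hfix _).2 ((hK hk).2 v (hVD hv)), ?_⟩
    refine Cores.le_pPrimeCore (N := (K.subgroupOf S).subgroupOf (fixedSubgroup (MulAut.conjNormal v : MulAut S)))
      ⟨fun x hx c => ?_⟩ ?_ hk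
    · have h2 : ((c : S) : X) ∈ normalizer (D : Set X) := mem_norm h.loc.ti (hVD hv) hv1' ((hfix _).1 c.2).symm
      have h3 : ((x : S) : X) ∈ K := hx
      have h4 := conj_mem (hKN h2) h3
      exact h4
    · refine hKp.coprime_dvd_left ?_
      have h2 := card_comap_dvd_of_injective (K.subgroupOf S)
        (fixedSubgroup (MulAut.conjNormal v : MulAut S)).subtype (subtype_injective _)
      exact h2.trans (card_comap_dvd_of_injective K S.subtype (subtype_injective _))

/-- **Characteristic two, `p` odd.** -/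
theorem out_even [Finite X] {p : ℕ} [hp : Fact p.Prime] (hp2 : p ≠ 2) {S D : Subgroup X} (h : AS p S D)
    (hS : IsLieTypeChar 2 S) : Out p S D := by
  refine out_of_cenP h (cenP_of_solvable h (S0205.result ?_) fun K hK hKp hKN =>
    core_eq_bot hp2 hp2 h hS hK hKp hKN)
  rw [← Nat.not_even_iff_odd, even_iff_two_dvd]
  intro h2
  obtain ⟨a, ha⟩ := exists_prime_orderOf_dvd_card' 2 h2
  obtain ⟨V, hVD, hVc, hV, -, -⟩ := Rk2.exists h.loc.rk
  have h3 : (a : X) = 1 := f1_elt (r := 2) hp2 h hS hVD hV a.2.1 (k := 1) (by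
    have h4 := congrArg Subtype.val (pow_orderOf_eq_one a)
    rw [ha] at h4
    rw [pow_one]
    exact h4) fun v hv => (a.2.2 v (hVD hv)).symm
  have h4 : a = 1 := Subtype.ext h3
  rw [h4, orderOf_one] at ha
  omega

/-- **The row `KEven35`.** -/
theorem kEven35 : KEven35.{u} := by
  intro p _ X _ _ S D h hΦ
  exact out_even (by rcases hΦ.1 with h1 | h1 <;> omega) h hΦ.2

end Cfsg.Agent.TID.X
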