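import Mathlib
import Cfsg.Agent.TID.Basic

/-!
# S4622 (project TID): general lemmas for `ToSylow` (helper30)

* `le_of_not_dvd`, `not_dvd_of_max` : Sylow subgroups of a subgroup;
* `syl_of_cen` : Lemma KC;
* `two_trans`, `eq_one_of_rank_one` : the rank one case.
-/

set_option autoImplicit false
set_option linter.unusedSectionVars false

namespace Cfsg.Agent.TID.X.TS

open Cfsg Subgroup Cfsg.Agent.TID

universe u

variable {X : Type u} [Group X] [Finite X] {p : ℕ} [hp : Fact p.Prime]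

theorem le_of_not_dvd {D H Q : Subgroup X} (h : ¬ p ∣ D.relIndex H) (hQ : IsPGroup p Q) (hDQ : D ≤ Q) (hQH : Q ≤ H) :
    Q ≤ D := by
  have h1 := relIndex_mul_relIndex D Q H hDQ hQH
  obtain ⟨n, hn⟩ := hQ.index (D.subgroupOf Q)
  have h2 : D.relIndex Q = p ^ n := hn
  rcases Nat.eq_zero_or_pos n with rfl | h0
  · rw [pow_zero] at h2
    exact relIndex_eq_one.1 h2
  · exfalso
    apply h
    rw [← h1, h2]
    exact (dvd_pow_self p h0.ne').mul_right _

theorem not_dvd_of_max {A H : Subgroup X} (hA : IsPGroup p A) (hAH : A ≤ H)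
    (h : ∀ Q : Subgroup X, IsPGroup p Q → A ≤ Q → Q ≤ H → Q ≤ Nz A → Q ≤ A) : ¬ p ∣ A.relIndex H := by
  have h1 : IsPGroup p (A.subgroupOf H) := hA.comap_subtype
  obtain ⟨P, hP⟩ := h1.exists_le_sylow
  set R : Subgroup X := (P : Subgroup H).map H.subtype with hR
  have hR1 : IsPGroup p R := P.isPGroup'.map _
  have hAR : A ≤ R := fun x hx => ⟨⟨x, hAH hx⟩, hP hx, rfl⟩
  have hRH : R ≤ H := map_subtype_le _
  have h2 : R ⊓ Nz A ≤ A :=
    h _ (hR1.to_le inf_le_left) (le_inf hAR le_normalizer) (inf_le_left.trans hRH) inf_le_right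
  have h3 : Group.IsNilpotent R := hR1.isNilpotent
  have h4 : A.subgroupOf R = ⊤ := by
    refine normalizerCondition_iff_only_full_group_self_normalizing.1 Group.normalizerCondition_of_isNilpotent _ ?_
    rw [← subgroupOf_normalizer_eq hAR]
    apply le_antisymm
    · intro x hx
      exact h2 ⟨x.2, hx⟩
    · intro x hx
      exact le_normalizer hx
  have h5 : A.subgroupOf H = P := by
    refine le_antisymm hP fun x hx => ?_
    have h6 : (⟨x, ⟨x, hx, rfl⟩⟩ : R) ∈ A.subgroupOf R := by rw [h4]; exact mem_top _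
    exact h6
  have h6 : A.relIndex H = (P : Subgroup H).index := by rw [← h5]; rfl
  rw [h6]
  exact P.not_dvd_index

/-- **Lemma KC.** -/
theorem syl_of_cen {D K : Subgroup X} (h : Loc p D) (hy : DefY p D) [hK : K.Normal] (h0 : D ⊓ K ≠ ⊥)
    (hc : IsPGroup p ↥(K ⊓ Cz D)) : ¬ p ∣ D.relIndex K := by
  obtain ⟨y, hy1, hy2, hy3⟩ := hy
  have h1 : K ⊓ Cz D ≤ D :=
    h.le_of_normal (le_Nz_inf (le_Nz_normal _ K) (Nz_le_Nz_Cz D)) le_rfl le_normalizer hc
  have hyC : y ∈ Cz D := mem_Cz.2 fun d hd => (mem_C1.1 (hy2 hd)).symm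
  have h2 : K ⊓ Nz D ≤ C1 y := by
    intro n hn
    have h3 : n * y * n⁻¹ * y⁻¹ ∈ K ⊓ Cz D := by
      refine mem_inf.2 ⟨?_, mul_mem (conj_mem (Nz_le_Nz_Cz D hn.2) hyC) (inv_mem hyC)⟩
      rw [show n * y * n⁻¹ * y⁻¹ = n * (y * n⁻¹ * y⁻¹) by group]
      exact mul_mem hn.1 (hK.conj_mem _ (inv_mem hn.1) y)
    have h4 : Commute (n * y * n⁻¹ * y⁻¹) y := (mem_C1.1 (hy2 (h1 h3))).symm
    have h5 : (n * y * n⁻¹ * y⁻¹) ^ orderOf y = 1 := by
      have h6 := h4.mul_pow (orderOf y)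
      rw [inv_mul_cancel_right, conj_pow, pow_orderOf_eq_one, mul_one, mul_inv_cancel, mul_one] at h6
      exact h6.symm
    obtain ⟨k, hk⟩ := pow_eq_one_of_mem h.pgrp (h1 h3)
    have h6 := eq_one_of_pow hk fun h7 => hy1 (h7.trans (orderOf_dvd_of_pow_eq_one h5))
    refine mem_C1.2 ?_
    calc y * n = (n * y * n⁻¹ * y⁻¹) * (y * n) := by rw [h6, one_mul]
      _ = n * y := by group
  rw [← inf_relIndex_right]
  refine not_dvd_of_max (h.pgrp.to_le inf_le_left) inf_le_right fun Q hQ h3 h4 h5 => ?_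
  have h6 : Q ≤ Nz D := h5.trans (h.ti.norm_le inf_le_left h0)
  have h7 : Q ⊔ D ≤ D :=
    le_of_not_dvd hy3 (hQ.to_sup_of_normal_right' h.pgrp h6) le_sup_right (sup_le ((le_inf h4 h6).trans h2) hy2)
  exact le_inf (le_sup_left.trans h7) h4

/-- `D` is a Sylow subgroup of `S D` -/
theorem syl_sup {D S : Subgroup X} (hD : IsPGroup p D) [S.Normal] (h : ¬ p ∣ D.relIndex S) :
    ¬ p ∣ D.relIndex (S ⊔ D) := by
  refine not_dvd_of_max hD le_sup_right fun Q hQ h1 h2 _ => ?_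
  rw [← inf_relIndex_right] at h
  have h3 : Q ⊓ S ≤ D ⊓ S := le_of_not_dvd h (hQ.to_le inf_le_left) (inf_le_inf_right S h1) inf_le_right
  intro q hq
  obtain ⟨s, hs, d, hd, rfl⟩ := mem_sup_of_normal_left.1 (h2 hq)
  have h4 : s ∈ Q := by
    have h5 := mul_mem hq (inv_mem (h1 hd))
    rwa [mul_inv_cancel_right] at h5
  exact mul_mem (h3 ⟨h4, hs⟩).1 hd

theorem mem_of_pow {D H : Subgroup X} (hD : IsPGroup p D) (hDH : D ≤ H) (h : ¬ p ∣ D.relIndex H) {x : X} (hx : x ∈ H)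
    (hxN : x ∈ Nz D) {k : ℕ} (hk : x ^ p ^ k = 1) : x ∈ D := by
  have h1 : IsPGroup p (zpowers x) := by
    rintro ⟨_, n, rfl⟩
    refine ⟨k, Subtype.ext ?_⟩
    change (x ^ n) ^ p ^ k = 1
    rw [← zpow_natCast, ← zpow_mul, mul_comm, zpow_mul, zpow_natCast, hk, one_zpow]
  have h2 : zpowers x ⊔ D ≤ D :=
    le_of_not_dvd h (h1.to_sup_of_normal_right' hD (zpowers_le.2 hxN)) le_sup_right (sup_le (zpowers_le.2 hx) hDH)
  exact h2 (mem_sup_left (mem_zpowers x))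

/-- `D` acts freely on the other cosets of `N(D)` -/
theorem free {D H : Subgroup X} (hT : TI D) (hD : IsPGroup p D) (hDH : D ≤ H) (h : ¬ p ∣ D.relIndex H) {g d : X}
    (hg : g ∈ H) (hgN : g ∉ Nz D) (hd : d ∈ D) (h1 : g⁻¹ * d * g ∈ Nz D) : d = 1 := by
  by_contra hd1
  obtain ⟨k, hk⟩ := pow_eq_one_of_mem hD hd
  refine hgN (hT.mem hd hd1 (mem_of_pow hD hDH h (mul_mem (mul_mem (inv_mem hg) (hDH hd)) hg) h1 (k := k) ?_))
  have h2 := conj_pow (i := p ^ k) (a := g⁻¹) (b := d)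
  rw [inv_inv] at h2
  rw [h2, hk, mul_one, inv_mul_cancel]

/-- `D` is transitive on the other cosets of `N(D)` -/
theorem two_trans {D H : Subgroup X} (hT : TI D) (hD : IsPGroup p D) (hDH : D ≤ H) (h : ¬ p ∣ D.relIndex H)
    (hi : (Nz D).relIndex H = 1 + Nat.card D) {g g' : X} (hg : g ∈ H) (hgN : g ∉ Nz D) (hg' : g' ∈ H)
    (hgN' : g' ∉ Nz D) : ∃ d ∈ D, (d * g)⁻¹ * g' ∈ Nz D := by
  classical
  let f : Option D → H ⧸ (Nz D).subgroupOf H := fun o =>
    o.elim (QuotientGroup.mk 1) fun d => QuotientGroup.mk ⟨d * g, mul_mem (hDH d.2) hg⟩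
  have heq : ∀ a b : H, (QuotientGroup.mk a : H ⧸ (Nz D).subgroupOf H) = QuotientGroup.mk b → (a : X)⁻¹ * b ∈ Nz D :=
    fun a b hab => (QuotientGroup.eq (s := (Nz D).subgroupOf H)).1 hab
  have hne : ∀ d : D, (d : X) * g ∉ Nz D := fun d h1 => by
    have h2 := mul_mem (inv_mem (le_normalizer d.2 : (d : X) ∈ Nz D)) h1
    rw [inv_mul_cancel_left] at h2
    exact hgN h2
  have hinj : Function.Injective f := by
    rintro (_ | a) (_ | b) hab
    · rfl
    · exfalso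
      have h1 : (1 : X)⁻¹ * (b * g) ∈ Nz D := heq _ _ hab
      rw [inv_one, one_mul] at h1
      exact hne b h1
    · exfalso
      have h1 : (1 : X)⁻¹ * (a * g) ∈ Nz D := heq _ _ hab.symm
      rw [inv_one, one_mul] at h1
      exact hne a h1
    · have h1 : ((a : X) * g)⁻¹ * (b * g) ∈ Nz D := heq _ _ hab
      rw [show ((a : X) * g)⁻¹ * (b * g) = g⁻¹ * ((a : X)⁻¹ * b) * g by group] at h1
      have h2 := free hT hD hDH h hg hgN (mul_mem (inv_mem a.2) b.2) h1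
      rw [Subtype.ext (inv_mul_eq_one.1 h2 : (a : X) = b)]
  have hbij : Function.Bijective f := by
    refine (Nat.bijective_iff_injective_and_card f).2 ⟨hinj, ?_⟩
    rw [Finite.card_option, add_comm, ← hi]
    rfl
  obtain ⟨o, ho⟩ := hbij.2 (QuotientGroup.mk ⟨g', hg'⟩)
  rcases o with _ | d
  · exfalso
    have h1 : (1 : X)⁻¹ * g' ∈ Nz D := heq _ _ ho
    rw [inv_one, one_mul] at h1
    exact hgN' h1
  · exact ⟨d, d.2, heq _ _ ho⟩

/-- **rank one**: no nontrivial element of order prime to `p` centralizes `D` -/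
theorem eq_one_of_rank_one {S D : Subgroup X} (h : AS p S D) (hs : ¬ p ∣ D.relIndex (S ⊔ D))
    (hi : (Nz D).relIndex (S ⊔ D) = 1 + Nat.card D) {y : X} (hy1 : ¬ p ∣ orderOf y) (hy2 : D ≤ C1 y) : y = 1 := by
  have hSn := h.soc.normal
  have hSs := h.soc.simple
  have hyC : y ∈ Cz D := mem_Cz.2 fun d hd => (mem_C1.1 (hy2 hd)).symm
  have hyN : y ∈ Nz D := centralizer_le_normalizer _ hyC
  -- `y` fixes all cosets
  have h1 : ∀ g ∈ S, g⁻¹ * y * g ∈ Nz D := by
    intro g hg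
    by_cases hgN : g ∈ Nz D
    · exact mul_mem (mul_mem (inv_mem hgN) hyN) hgN
    have h2 : y * g * y⁻¹ ∉ Nz D := fun h2 => hgN (by
      have h3 := mul_mem (mul_mem (inv_mem hyN) h2) hyN
      rwa [show y⁻¹ * (y * g * y⁻¹) * y = g by group] at h3)
    obtain ⟨d, hd, h3⟩ := two_trans h.loc.ti h.loc.pgrp le_sup_right hs hi (mem_sup_left hg) hgN
      (mem_sup_left (hSn.conj_mem g hg y)) h2
    have h4 : g⁻¹ * (d⁻¹ * y) * g ∈ Nz D := by
      have h5 := mul_mem h3 hyN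
      rwa [show (d * g)⁻¹ * (y * g * y⁻¹) * y = g⁻¹ * (d⁻¹ * y) * g by group] at h5
    have h5 : Commute d⁻¹ y := (mem_C1.1 (hy2 (inv_mem hd))).symm
    have h6 : g⁻¹ * (d⁻¹) ^ orderOf y * g ∈ Nz D := by
      have h7 := pow_mem h4 (orderOf y)
      have h8 := conj_pow (i := orderOf y) (a := g⁻¹) (b := d⁻¹ * y)
      rw [inv_inv] at h8
      rwa [h8, h5.mul_pow, pow_orderOf_eq_one, mul_one] at h7
    have h7 := free h.loc.ti h.loc.pgrp le_sup_right hs (mem_sup_left hg) hgN (pow_mem (inv_mem hd) _) h6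
    obtain ⟨k, hk⟩ := pow_eq_one_of_mem h.loc.pgrp (inv_mem hd)
    have h8 := eq_one_of_pow hk fun h9 => hy1 (h9.trans (orderOf_dvd_of_pow_eq_one h7))
    rwa [h8, one_mul] at h4
  let K : Subgroup X :=
    { carrier := {x | ∀ g ∈ S, g⁻¹ * x * g ∈ Nz D}
      one_mem' := fun g _ => by rw [mul_one, inv_mul_cancel]; exact one_mem _
      mul_mem' := fun {a b} ha hb g hg => by
        rw [show g⁻¹ * (a * b) * g = (g⁻¹ * a * g) * (g⁻¹ * b * g) by group]
        exact mul_mem (ha g hg) (hb g hg)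
      inv_mem' := fun {a} ha g hg => by
        rw [show g⁻¹ * a⁻¹ * g = (g⁻¹ * a * g)⁻¹ by group]
        exact inv_mem (ha g hg) }
  have hSK : S ≤ Nz K := le_Nz fun s hs x hx g hg => by
    rw [show g⁻¹ * (s * x * s⁻¹) * g = (s⁻¹ * g)⁻¹ * x * (s⁻¹ * g) by group]
    exact hx _ (mul_mem (inv_mem hs) hg)
  have h2 : K ⊓ S = ⊥ := by
    rcases (normal_subgroupOf_of_le_normalizer hSK : (K.subgroupOf S).Normal).eq_bot_or_eq_top with h3 | h3
    · rw [eq_bot_iff]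
      intro x hx
      have h4 : (⟨x, hx.2⟩ : S) ∈ K.subgroupOf S := hx.1
      rw [h3, mem_bot] at h4
      exact congrArg Subtype.val h4
    · exfalso
      apply h.not_le
      intro s hs
      have h4 : (⟨s, hs⟩ : S) ∈ K.subgroupOf S := by rw [h3]; exact mem_top _
      have h5 : (1 : X)⁻¹ * s * 1 ∈ Nz D := h4 1 (one_mem _)
      rwa [inv_one, one_mul, mul_one] at h5
  have h3 : y ∈ Cz S := le_Cz_of_disjoint (le_Nz_normal K S) hSK h2 h1
  rwa [show Cz S = ⊥ from h.soc.cent, mem_bot] at h3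

theorem index_of_rank_one {S D : Subgroup X} (h : AS p S D) (hy : DefY p D) (hs : ¬ p ∣ D.relIndex (S ⊔ D))
    (hi : (Nz D).relIndex (S ⊔ D) = 1 + Nat.card D) : ¬ p ∣ D.index := by
  obtain ⟨y, hy1, hy2, hy3⟩ := hy
  have h1 := eq_one_of_rank_one h hs hi hy1 hy2
  subst h1
  have h2 : centralizer ({1} : Set X) = ⊤ := by
    rw [eq_top_iff]
    intro x _
    exact mem_C1.2 (by rw [one_mul, mul_one])
  rwa [h2, relIndex_top_right] at hy3

theorem index_of_le {D H : Subgroup X} (hDH : D ≤ H) (hs : ¬ p ∣ D.relIndex H) (hi : ¬ p ∣ H.index) : ¬ p ∣ D.index := by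
  rw [← relIndex_mul_index hDH]
  exact hp.out.not_dvd_mul hs hi

end Cfsg.Agent.TID.X.TS
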