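import Mathlib
import Cfsg.Agent.TID.X.ToSylA
import Cfsg.Agent.H476.TI.RedFill
import Cfsg.Agent.H423.TI.Facts
import Cfsg.Agent.H816.OutEmb
import Cfsg.Agent.S2126
import Cfsg.Agent.S2601
import Cfsg.Agent.TitsK.Model
import Cfsg.Agent.TitsK.Inst
import Cfsg.Agent.TitsK.SheetT

/-!
# S4622 (project TID): the box `ToSylow` (helper30)
-/

set_option autoImplicit false
set_option linter.unusedSectionVars false

namespace Cfsg.Agent.TID.X

open Cfsg Subgroup Cfsg.Agent.TID Cfsg.Agent.TID.X.TS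

universe u

namespace TS

variable {X : Type u} [Group X] [Finite X] {p : ℕ} [hp : Fact p.Prime] {S D : Subgroup X}

theorem index_dvd_out (h : Soc S) {Y : Type*} [Group Y] (e : S ≃* Y) : S.index ∣ Nat.card (Cfsg.Out Y) := by
  have := h.normal
  obtain ⟨f⟩ := H816.OutEmb.out_congr e
  rw [← Nat.card_congr f.toEquiv]
  exact H816.OutEmb.index_dvd S (by rw [h.cent]; exact bot_le)

theorem index_of_oddIn (h : Soc S) (hp2 : p ≠ 2) (ho : H476.TI.OddIn S) : ¬ p ∣ S.index := by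
  have := h.normal
  obtain ⟨P⟩ : Nonempty (Sylow p X) := inferInstance
  exact fun h1 => P.not_dvd_index (h1.trans (index_dvd_of_le (H476.TI.le_of_oddIn hp2 S h.cent ho P)))

/-- the case `PSL₃(4)` -/
theorem l34 (h : AS 3 S D) (hy : DefY 3 D) (hDS : D ≤ S) (hs : ¬ 3 ∣ D.relIndex S) {F : Type} [Field F] [Fintype F]
    (hF : Fintype.card F = 4) (e : S ≃* Matrix.ProjectiveSpecialLinearGroup (Fin 3) F) : ¬ 3 ∣ D.index := by
  have h3 : Fact (Nat.Prime 3) := ⟨Nat.prime_three⟩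
  have h2 : Fact (Nat.Prime 2) := ⟨Nat.prime_two⟩
  have hSn := h.soc.normal
  have hsf := H423.TI.sf (S := S) ⟨F, inferInstance, inferInstance, hF, ⟨e⟩⟩
  have hD : IsPGroup 3 (D.subgroupOf S) := h.loc.pgrp.comap_subtype
  have hc : Nat.card (D.subgroupOf S) = 9 :=
    (H476.TI.dvd_sylow (p := 3) (k := 2) (m := 2240) hsf.card (by norm_num) (by norm_num) (hD.toSylow hs)).1
  obtain ⟨d, hd, hd1⟩ := D.bot_or_exists_ne_one.resolve_left h.loc.rk.ne_bot
  have hcen : ∀ x ∈ S, x ∈ Cz D → x ∈ D := fun x hx hxc =>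
    (hsf.nine _ hc).2 ⟨d, hDS hd⟩ hd (fun h1 => hd1 (congrArg Subtype.val h1)) ⟨x, hx⟩
      (Subtype.ext (mem_Cz.1 hxc d hd).symm)
  obtain ⟨φ, hφ⟩ := H816.OutEmb.exists_hom S (by rw [h.soc.cent]; exact bot_le)
  obtain ⟨f⟩ := H816.OutEmb.out_congr e
  obtain ⟨ψ, -, -, hψ⟩ := S2601.result (F := F) (p := 2) (f := 2) (n := 3) (by norm_num) (by rw [hF]; norm_num) le_rfl
  have hψ3 : Nat.card ψ.ker = 3 := by rw [hψ]; norm_num
  let θ : X →* Multiplicative (ZMod 2 × ZMod 2) := ψ.comp (f.toMonoidHom.comp φ)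
  have hSK : S ≤ θ.ker := fun x hx => by
    have h1 : φ x = 1 := by rw [← MonoidHom.mem_ker, hφ]; exact hx
    change ψ (f (φ x)) = 1
    rw [h1, map_one, map_one]
  have hcube : ∀ x ∈ θ.ker, x ^ 3 ∈ S := fun x hx => by
    have h1 : f (φ x) ∈ ψ.ker := hx
    have h4 : (⟨f (φ x), h1⟩ : ψ.ker) ^ Nat.card ψ.ker = 1 := pow_card_eq_one'
    rw [hψ3] at h4
    have h5 : f (φ x) ^ 3 = 1 := congrArg Subtype.val h4
    rw [← hφ, MonoidHom.mem_ker, map_pow]
    apply f.injective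
    rw [map_pow, h5, map_one]
  have hK : IsPGroup 3 ↥(θ.ker ⊓ Cz D) := by
    intro x
    obtain ⟨k, hk⟩ := pow_eq_one_of_mem h.loc.pgrp (hcen _ (hcube x x.2.1) (pow_mem x.2.2 3))
    refine ⟨k + 1, Subtype.ext ?_⟩
    change (x : X) ^ 3 ^ (k + 1) = 1
    rw [pow_succ', pow_mul, hk]
  have h0 : D ⊓ θ.ker ≠ ⊥ := by
    rw [inf_eq_left.2 (hDS.trans hSK)]
    exact h.loc.rk.ne_bot
  refine index_of_le (hDS.trans hSK) (syl_of_cen h.loc hy h0 hK) fun h1 => ?_
  have h4 : θ.ker.index ∣ 4 := by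
    rw [index_ker]
    have h5 := card_subgroup_dvd_card θ.range
    have h6 : Nat.card (Multiplicative (ZMod 2 × ZMod 2)) = 4 := by
      rw [Nat.card_congr Multiplicative.toAdd, Nat.card_prod, Nat.card_zmod]
    rwa [h6] at h5
  exact absurd (h1.trans h4) (by norm_num)

end TS

/-- **ToSylow.** -/
theorem toSylow : ToSylow.{u} := by
  intro p hp X _ _ S D h hy h0 hc
  have hSn := h.soc.normal
  have hSs := h.soc.simple
  have hsyl : ¬ p ∣ D.relIndex S := hc.elim (fun hc => syl_of_cen h.loc hy h0 hc) id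
  have hs := syl_sup h.loc.pgrp hsyl
  set H : Subgroup X := S ⊔ D with hH
  have hSH : S ≤ H := le_sup_left
  have hDH : D ≤ H := le_sup_right
  have hD : IsPGroup p (D.subgroupOf H) := h.loc.pgrp.comap_subtype
  let P : Sylow p H := hD.toSylow hs
  have hPD : (P : Subgroup H) = D.subgroupOf H := rfl
  have hN : normalizer ((P : Subgroup H) : Set H) = (Nz D).subgroupOf H := (subgroupOf_normalizer_eq hDH).symm
  have hTI : TI (P : Subgroup H) := by
    refine ti_of_mem fun x g hx hx1 hg => ?_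
    change g ∈ normalizer ((P : Subgroup H) : Set H)
    rw [hN]
    exact h.loc.ti.mem (x := (x : X)) (g := (g : X)) hx (fun h1 => hx1 (Subtype.ext h1)) hg
  have hT := H666.Link.isTI_of_conj P hTI
  have e : S ≃* S.subgroupOf H := (subgroupOfEquivOfLe hSH).symm
  have eD : D ≃* (P : Subgroup H) := (subgroupOfEquivOfLe hDH).symm
  have hLs : IsSimpleGroup (S.subgroupOf H) := by
    have h1 : Nontrivial (S.subgroupOf H) := e.symm.toEquiv.nontrivial
    exact IsSimpleGroup.isSimpleGroup_of_surjective e.toMonoidHom e.surjective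
  have hLn : ¬ IsMulCommutative (S.subgroupOf H) := fun h1 =>
    h.soc.nonab ⟨⟨fun a b => e.injective (by rw [map_mul, map_mul]; exact h1.is_comm.comm _ _)⟩⟩
  have hLc : centralizer ((S.subgroupOf H : Subgroup H) : Set H) = ⊥ := by
    rw [eq_bot_iff]
    intro x hx
    have h1 : (x : X) ∈ Cz S := mem_Cz.2 fun s hs =>
      congrArg Subtype.val (mem_centralizer_iff.1 hx (⟨s, hSH hs⟩ : H) hs)
    rw [show Cz S = ⊥ from h.soc.cent, mem_bot] at h1
    exact Subtype.ext h1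
  have hL : p ∣ Nat.card (S.subgroupOf H) := by
    rw [← Nat.card_congr e.toEquiv]
    exact h.dvd
  have hrank : Nat.card (Sylow p H) = 1 + Nat.card (P : Subgroup H) → ¬ p ∣ D.index := fun h1 => by
    refine index_of_rank_one h hy hs ?_
    rw [P.card_eq_index_normalizer, ← Nat.card_congr eD.toEquiv] at h1
    rw [← h1]
    exact congrArg index hN.symm
  have hidx : ¬ p ∣ S.index → ¬ p ∣ D.index := fun h1 =>
    index_of_le hDH hs fun h2 => h1 (h2.trans (index_dvd_of_le hSH))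
  by_cases hp2 : p = 2
  · subst hp2
    exact hrank (H476.TI.main_two hT P _ hLn hL)
  have hnc : ¬ IsCyclic (P : Subgroup H) := fun h1 =>
    h.loc.rk.not_cyclic (isCyclic_of_surjective _ eD.symm.surjective)
  have hP1 : (P : Subgroup H) ≠ ⊥ := by
    intro h1
    apply hnc
    rw [h1]
    infer_instance
  have hN1 : normalizer ((P : Subgroup H) : Set H) ≠ ⊤ := by
    rw [hN]
    intro h1
    exact h.not_le (hSH.trans (subgroupOf_eq_top.1 h1))
  rcases H476.TI.goal20 H _ hLs hLn hLc p hp2 _ (H666.Link.stronglyP hT P hP1 hN1) with h1 | h1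
  · exact absurd (h1 P) hnc
  rcases H476.TI.main_odd hp2 hT P hnc _ hLn hLc hL H476.TI.goal49 h1 with h2 | ⟨h2, h3⟩ | ⟨rfl, h2, h3⟩
  · exact hrank h2
  · have hDS : D ≤ S := fun d hd => h2 (show (⟨d, hDH hd⟩ : H) ∈ (P : Subgroup H) from hd)
    rcases h3 with ⟨rfl, ⟨F, _, _, hF, ⟨f⟩⟩ | h3⟩ | ⟨rfl, h3 | h3⟩ | ⟨rfl, h3⟩
    · exact l34 h hy hDS hsyl hF (e.trans f)
    · exact hidx (index_of_oddIn h.soc hp2 ((H476.TI.oddIn_m11 h3).congr e))
    · obtain ⟨f⟩ := h3
      obtain ⟨e'⟩ := TitsK.exists_equiv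
      have hfin : Finite FourTwo.Base.LL := by infer_instance
      have h4 : Nat.card (Cfsg.Out ↥TitsK.TT) ∣ 2 := TitsK.tdata.index_inn
      have h5 : S.index ∣ Nat.card (Cfsg.Out ↥TitsK.TT) := index_dvd_out h.soc ((e.trans f).trans e')
      have h6 : S.index ∣ 2 := h5.trans h4
      exact hidx fun h7 => absurd (h7.trans h6) (by norm_num)
    · exact hidx (index_of_oddIn h.soc hp2 ((H476.TI.oddIn_mcl h3).congr e))
    · exact hidx (index_of_oddIn h.soc hp2 ((H476.TI.oddIn_j4 h3).congr e))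
  · obtain ⟨F, _, _, hF, ⟨f⟩⟩ := h3
    have h4 : Nat.card (Cfsg.Out ↥(Lie.Sz F (2 ^ (2 + 1)))) = 2 * 2 + 1 :=
      S2126.result (F := F) (m := 2) (by norm_num) (by rw [hF]; norm_num)
    have h5 : S.index ∣ 5 := (index_dvd_out h.soc (e.trans f)).trans h4.dvd
    refine index_of_le hDH hs fun h6 => h2 ?_
    rw [← relIndex_mul_index hSH] at h5
    obtain ⟨c, hc⟩ := h6
    rw [hc, ← mul_assoc, mul_comm _ 5, mul_assoc] at h5
    have h7 : S.relIndex H * c ∣ 1 := by
      have h8 : 5 * (S.relIndex H * c) ∣ 5 * 1 := by rwa [mul_one]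
      exact Nat.dvd_of_mul_dvd_mul_left (by norm_num) h8
    have h8 : S.relIndex H = 1 := Nat.dvd_one.1 ((Dvd.intro _ rfl).trans h7)
    intro x _
    exact relIndex_eq_one.1 h8 x.2

end Cfsg.Agent.TID.X
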