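import Mathlib
import Cfsg.Agent.H234.CentE
/-!
# TID: an involutory automorphism of a building of rank two centralises a `p`-element (helper30)
-/

set_option autoImplicit false
set_option linter.unusedSectionVars false

open scoped Pointwise

namespace Cfsg.Agent.TID.X

open Cfsg.Agent.Tits.Core Cfsg.Agent.Tits.Core.Bldg Cfsg.Agent.Tits.Exchange Cfsg.Agent.Tits
open Cfsg.Agent.FixBN Cfsg.Agent.FixBN.Cox Cfsg.Agent.H234.CoxA Cfsg.Agent.H234.CoxB
open Cfsg.Agent.H234.CentA
open Cfsg.Agent.H234.CentB Cfsg.Agent.H234.CentC Cfsg.Agent.H234.CentD Cfsg.Agent.H234.CentE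

variable {I : Type*} {M : CoxeterMatrix I} {W : Type*} [Group W] {cs : CoxeterSystem M W} {C : Type*}

variable {Δ : Bldg cs C} {G : Type*} [Group G] [MulAction G C] {p : ℕ} {t : Tw Δ G}
  [F : OppRes.Cox cs] [Finite G] [Finite C] [Finite I] [hp : Fact p.Prime]

/-- **Rank two**: some nontrivial `p`-element is fixed. -/
theorem bldg_two (S : Sys Δ G p) (hp2 : p ≠ 2) (hth : Δ.Thick) [Nonempty C] {k0 j0 : I}
    (hne : k0 ≠ j0) (hI : ∀ i, i = k0 ∨ i = j0)
    (hncomm : cs.simple k0 * cs.simple j0 ≠ cs.simple j0 * cs.simple k0)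
    (hf : ∀ a ∈ t.cent, ∀ k : ℕ, a ^ p ^ k = 1 → a = 1) : False := by
  have hc : HC t p := by
    intro A hA hAp
    have h1 : Subsingleton A := ⟨fun a b => by
      obtain ⟨k, hk⟩ := hAp a
      obtain ⟨m, hm⟩ := hAp b
      exact Subtype.ext ((hf a (hA a.2) k (congrArg Subtype.val hk)).trans
        (hf b (hA b.2) m (congrArg Subtype.val hm)).symm)⟩
    infer_instance
  have hU : ∀ y, ∀ a ∈ S.U y, a ∈ t.cent → a = 1 := by
    intro y a ha hac
    obtain ⟨k, hk⟩ := S.isP y ⟨a, ha⟩
    exact hf a hac k (congrArg Subtype.val hk)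
  have hother : ∀ k, ∃ j, k ≠ j ∧ (∀ i, i = k ∨ i = j) ∧
      cs.simple k * cs.simple j ≠ cs.simple j * cs.simple k := by
    intro k
    rcases hI k with rfl | rfl
    · exact ⟨j0, hne, hI, hncomm⟩
    · exact ⟨k0, hne.symm, fun i => (hI i).symm, hncomm.symm⟩
  have hirr : Irr cs := by
    intro X hX hX1
    obtain ⟨a, ha⟩ := hX
    obtain ⟨j, hj, hIj, hnc⟩ := hother a
    refine ⟨a, ha, j, fun hjX => hX1 (Set.eq_univ_iff_forall.2 fun i => ?_), hnc.symm⟩
    rcases hIj i with rfl | rfl
    · exact ha
    · exact hjX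
  rcases positions hc S hp2 hth hirr hne with ⟨k, y, hk⟩ | ⟨J, k, y, hgd, hk, huniv⟩
  · obtain ⟨z, z', hzz, hz, hz'⟩ := hth y k
    obtain ⟨v, hv, hvz⟩ := S.exists_move (hz.trans hz'.symm)
    obtain ⟨a, ha, hac, hact⟩ := exists_act S hp2 hth hk.θ hv
    have h1 := hact z (Δ.Pan_subset_Res (Set.mem_singleton k) y (Δ.mem_Pan_of_δ hz))
    rw [hU y a ha hac, one_smul, hvz] at h1
    exact hzz h1
  · obtain ⟨z, z', hzz, hz, hz'⟩ := hth y k
    have hk' : t.σ k ∉ J := fun h => hk (by have := hgd.1 _ h; rwa [t.σσ] at this)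
    have hne' : cs.simple k * wJ cs J ≠ wJ cs J * cs.simple (t.σ k) := by
      by_cases hσ : t.σ k = k
      · obtain ⟨j, hj, hIj, hnc⟩ := hother k
        have hJ : J = {j} := by
          ext i
          rw [Set.mem_singleton_iff]
          constructor
          · intro hi
            rcases hIj i with rfl | h
            · exact absurd hi hk
            · exact h
          · rintro rfl
            have h1 : i ∈ J ∪ {k, t.σ k} := by rw [huniv]; exact Set.mem_univ i
            rcases h1 with h1 | h1 | h1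
            · exact h1
            · exact absurd h1.symm hj
            · rw [Set.mem_singleton_iff, hσ] at h1
              exact absurd h1.symm hj
        rw [hJ, wJ_singleton, hσ]
        exact hnc
      · have hIk : ∀ i, i = k ∨ i = t.σ k := by
          intro i
          obtain ⟨j, hj, hIj, hnc⟩ := hother k
          rcases hIj i with h | h
          · exact Or.inl h
          · rcases hIj (t.σ k) with h' | h'
            · exact absurd h' hσ
            · exact Or.inr (h.trans h'.symm)
        have hJ : J = ∅ := by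
          refine Set.eq_empty_iff_forall_notMem.2 fun i hi => ?_
          rcases hIk i with rfl | rfl
          · exact hk hi
          · exact hk' hi
        rw [hJ, wJ_empty, mul_one, one_mul]
        exact fun h => hσ (F.inj h).symm
    obtain ⟨a, ha, hac, haz, -⟩ := exists_cent_root (t := t) S hp2 hth hgd hk hz hz'
      (len_two (F.wJ_mem J) hk hk' hne') (X := ∅) (fun c m h => h.elim) (fun c m h => h.elim)
    rw [hU y a (ha y (Δ.self_mem_Res _ _)) hac, one_smul] at haz
    exact hzz haz

end Cfsg.Agent.TID.X
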