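import Mathlib
import Cfsg.Agent.TID.X.FreeA
import Cfsg.Agent.H234.U3Fix
import Cfsg.Agent.Lib.KleinGen
/-!
# TID: the involutory automorphisms of `PSL₃(q)`, `PSp₄(q)`, `PSU₃(q)`, `q` odd, centralise a unipotent element (helper30)
-/

set_option autoImplicit false
set_option linter.unusedSectionVars false

namespace Cfsg.Agent.TID.X

/-- `K` has an automorphism of order at most two which fixes no nontrivial `p`-element -/
def Free (p : ℕ) (K : Type*) [Group K] : Prop :=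
  ∃ τ : K ≃* K, (∀ g, τ (τ g) = g) ∧ ∀ a, τ a = a → ∀ k : ℕ, a ^ p ^ k = 1 → a = 1

theorem Free.of_equiv {p : ℕ} {K L : Type*} [Group K] [Group L] (e : K ≃* L) (h : Free p K) : Free p L := by
  obtain ⟨τ, h1, h2⟩ := h
  refine ⟨(e.symm.trans τ).trans e, fun g => by simp [h1], fun a ha k hk => ?_⟩
  simp only [MulEquiv.trans_apply] at ha
  have h3 : e.symm (e (τ (e.symm a))) = e.symm a := by rw [ha]
  rw [MulEquiv.symm_apply_apply] at h3
  have h4 := h2 _ h3 k (by rw [← map_pow, hk, map_one])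
  rwa [map_eq_one_iff _ e.symm.injective] at h4

section RankTwo

open Cfsg
open CoxeterSystem Cfsg.Agent.ChevalleyStructure.CoxeterGeom Cfsg.Agent.Tits.Roots Cfsg.Agent.Tits.Core
  Cfsg.Agent.Tits.Core.Bldg
  Cfsg.Agent.Tits.RootComb Cfsg.Agent.Nodes.Comb Cfsg.Agent.Nodes.Reps Cfsg.Agent.Nodes.BNOf Cfsg.Agent.Nodes.BNOf.RGD
  Cfsg.Agent.Schreier.BNSch Cfsg.Agent.FixBN Cfsg.Agent.Tits.OfBN Cfsg.Agent.FixBN.OfBN

variable {K : Type*} [Group K] [Finite K] [IsSimpleGroup K] {p : ℕ} [hp : Fact p.Prime]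
  {M : CoxeterMatrix (Fin 2)} {A : Fin 2 → Fin 2 → ℤ} {h : IsCartan M A} {T : Subgroup K} {n : Fin 2 → K}
  {X : (Fin 2 → ℤ) → Subgroup K} [Finite M.Group]

/-- **Rank two.** -/
theorem not_free_two (hp2 : p ≠ 2) (R : RGD M.toCoxeterSystem h p T n X)
    (hX : Nodes.RGDLib.G1 M.toCoxeterSystem h X = ⊤) (hM : M 0 1 ≠ 2) : ¬ Free p K := by
  rintro ⟨τ, hτ, hf⟩
  have hgen : RGD.B M.toCoxeterSystem h T X ⊔ NN M.toCoxeterSystem R.nsys = ⊤ := by
    rw [eq_top_iff, ← hX]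
    exact Nodes.RGDLib.rgd_G1_le R
  have hne : (R.bnPair hgen).S.Nonempty := ⟨n 0, _, rfl⟩
  have hS := SplitRGD.split_of_rgd Fact.out R hgen
    (Cfsg.Agent.Tits.OfBN.normalCore_eq_bot (R.bnPair hgen) hne)
  obtain ⟨hN, cs', hcs⟩ := Omega.ML.Ex.Typ.bnType R hgen
  obtain ⟨t, ht⟩ := TwOfBN.exists_tw hS (Equiv.ofInjective n R.n_injective) cs' hcs τ hτ
  refine bldg_two (t := t) (p := p) (sys (Equiv.ofInjective n R.n_injective) cs' hcs hS) hp2
    (thick _ _ cs' hcs) (k0 := 0) (j0 := 1) (by decide) (fun i => by omega) ?_ ?_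
  · intro hcomm
    have h2 := M.off_diagonal 0 1 (by decide)
    have h3 : (cs'.simple 0 * cs'.simple 1) ^ 2 = 1 := by
      rw [pow_two]
      calc cs'.simple 0 * cs'.simple 1 * (cs'.simple 0 * cs'.simple 1)
          = cs'.simple 0 * (cs'.simple 1 * cs'.simple 0) * cs'.simple 1 := by group
        _ = cs'.simple 0 * (cs'.simple 0 * cs'.simple 1) * cs'.simple 1 := by rw [← hcomm]
        _ = 1 := by
          rw [← mul_assoc, cs'.simple_mul_simple_self, one_mul, cs'.simple_mul_simple_self]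
    have h4 := orderOf_dvd_of_pow_eq_one h3
    rw [LieRecognition.CoxForm.orderOf_eq cs' 0 1] at h4
    have h5 := Nat.le_of_dvd (by norm_num) h4
    have h6 : M 0 1 ≠ 0 := by
      intro h0
      rw [h0] at h4
      exact absurd (Nat.eq_zero_of_zero_dvd h4) (by norm_num)
    omega
  · intro a ha k hk
    exact hf a (by rw [← ht]; exact ha) k hk

end RankTwo

section PSL

open Cfsg.Agent.LieRecognition.BNCox (cA)

theorem not_free_psl {F : Type*} [Field F] [Finite F] {p : ℕ} [Fact p.Prime] [CharP F p] (hp2 : p ≠ 2)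
    [IsSimpleGroup (Matrix.ProjectiveSpecialLinearGroup (Fin 3) F)] :
    ¬ Free p (Matrix.ProjectiveSpecialLinearGroup (Fin 3) F) := by
  have hfin : Finite (cA 2).Group := Nodes.RootsA.finite_W (cA 2).toCoxeterSystem (Nodes.RootsA.isCartan 2)
  have hfin2 : Finite (Matrix.ProjectiveSpecialLinearGroup (Fin 3) F) := Quotient.finite _
  exact not_free_two hp2 (Nodes.RGDTypeA.rgd_psl (n := 2) (F := F) (p := p) (cA 2).toCoxeterSystem
    (Nodes.RootsA.isCartan 2)) (Nodes.RGDTypeA.G1_psl_eq_top _ _) (by decide)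

end PSL

section Sp

open Cfsg Cfsg.Agent.Nodes Cfsg.Agent.Nodes.TypeC Cfsg.Agent.Nodes.WittModel Cfsg.Agent.Nodes.WittInst
  Cfsg.Agent.Nodes.WittAll Cfsg.Agent.Nodes.WittU
open Cfsg.Agent.TitsThree Cfsg.Agent.TitsThree.Siegel Cfsg.Agent.TitsThree.SiegelGen
  Cfsg.Agent.TitsThree.WittFrame Cfsg.Agent.TitsThree.WBridge Cfsg.Agent.TitsThree.WittWeyl
  Cfsg.Agent.TitsThree.FrameCN
open Cfsg.Agent.FixBN.WittNodeB

theorem not_free_psp {F : Type*} [Field F] [Finite F] {p : ℕ} [Fact p.Prime] [CharP F p] (hp2 : p ≠ 2)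
    [IsSimpleGroup (PSp 2 F)] : ¬ Free p (PSp 2 F) := by
  have hfin : Finite (CoxeterMatrix.B 2).Group := finite_W (CoxeterMatrix.B 2).toCoxeterSystem
  have hfin2 : Finite (PSp 2 F) := Quotient.finite _
  exact not_free_two hp2 (rgdC_model (KInstSp.model 2 F) (AmbT.of_amb amb_Sp p)
    (p0 := SpIdent.adm 1) one_ne_zero _) (WittModel.G1_eq_top _ (by norm_num) _) (by decide)

end Sp

section RankOne

open Cfsg.Agent.FixBN Cfsg.Agent.FixBN.U3Model Cfsg.Agent.FixBN.U3Core Cfsg.Agent.FixBN.RankOneU3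
  Cfsg.Agent.FixBN.UNode
open Cfsg Cfsg.Agent.LieExceptional.BNPairCore Cfsg.Agent.Tits.Core Cfsg.Agent.Tits.Core.Bldg Cfsg.Agent.Tits.OfBN
  Cfsg.Agent.Schreier.BNSch Cfsg.Agent.FixBN.OfBN

/-- **Rank one, unitary type.** -/
theorem not_free_one {K : Type*} [Group K] {P : Cfsg.BNPair K} {U V : Subgroup K} {F : Type*} [Field F]
    {σ : F →+* F} [Inv2 σ] [hN : ((P.B ⊓ P.N).subgroupOf P.N).Normal] {p : ℕ} [hp : Fact p.Prime] [Finite K]
    (hp2 : p ≠ 2) (S : Split P p U)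
    {I : Type*} {M : CoxeterMatrix I} (e : I ≃ P.S) (cs : CoxeterSystem M (WP P))
    (hcs : ∀ i, cs.simple i = QuotientGroup.mk (⟨(e i : K), P.subset (e i).2⟩ : P.N)) (i : I) (hI1 : ∀ j, j = i)
    (Nd : Node P U (e i : K) V) (N : UNode P U (e i : K) V σ) (hF : UF σ) : ¬ Free p K := by
  rintro ⟨τ, hτ, hf⟩
  obtain ⟨t, ht⟩ := TwOfBN.exists_tw S e cs hcs τ hτ
  obtain ⟨c, hcc⟩ := H234.U3Fix.exists_fixed S e cs hcs i hI1 Nd N hF t
  obtain ⟨g, rfl⟩ := QuotientGroup.mk_surjective c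
  have hstab : ∀ u ∈ UU P U (QuotientGroup.mk g), τ u ∈ UU P U (QuotientGroup.mk g) := by
    intro u hu
    have h1 : t.τ u ∈ UU P U (t.θ (QuotientGroup.mk g)) := (sys e cs hcs S).τ_mem_U t hu
    rwa [hcc, ht] at h1
  have hmem : ∀ a, g * N.x a * g⁻¹ ∈ UU P U (QuotientGroup.mk g) := by
    intro a
    rw [mem_UU S]
    have h1 : g⁻¹ * (g * N.x a * g⁻¹) * g = N.x a := by group
    rw [h1]
    exact N.mem a
  have hP : IsPGroup p (UU P U (QuotientGroup.mk g)) := (sys e cs hcs S).isP (QuotientGroup.mk g)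
  have hodd : Odd (Nat.card (UU P U (QuotientGroup.mk g))) := by
    obtain ⟨k, hk⟩ := IsPGroup.iff_card.1 hP
    rw [hk]
    exact (hp.out.odd_of_ne_two hp2).pow
  have hinv : ∀ u ∈ UU P U (QuotientGroup.mk g), τ u = u⁻¹ := by
    intro u hu
    obtain ⟨c, hc, k, -, h1, h2, h3⟩ := Lib.KleinGen.exists_fixed_mul_inverted _ hodd (τ : K →* K) hτ hstab hu
    obtain ⟨m, hm⟩ := hP ⟨c, hc⟩
    rw [h3, hf c h1 m (congrArg Subtype.val hm), one_mul]
    exact h2
  obtain ⟨x, hx⟩ := exists_pt hF 1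
  have h1 := (central_iff hF x).1 fun y => by
    have h2 := hinv _ (mul_mem (hmem x) (hmem y))
    rw [map_mul, hinv _ (hmem x), hinv _ (hmem y), ← mul_inv_rev, inv_inj] at h2
    have h3 : N.x y * N.x x = N.x x * N.x y := by
      have h4 : N.x y * N.x x = g⁻¹ * (g * N.x y * g⁻¹ * (g * N.x x * g⁻¹)) * g := by group
      rw [h4, h2]; group
    have h4 : N.x ((y * x)⁻¹ * (x * y)) = 1 := by rw [N.mul, N.x_inv, N.mul, N.mul, h3]; group
    exact (inv_mul_eq_one.1 (N.ne _ (by rw [h4]; exact one_mem _))).symm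
  rw [hx] at h1
  exact one_ne_zero h1

end RankOne

section Unitary

open Cfsg Cfsg.Agent.FixBN Cfsg.Agent.FixBN.U3Model Cfsg.Agent.FixBN.U3Core Cfsg.Agent.FixBN.RankOneU3
  Cfsg.Agent.FixBN.UNode
open CoxeterSystem Cfsg.Agent.ChevalleyStructure.CoxeterGeom Cfsg.Agent.Tits.Roots Cfsg.Agent.Nodes.TypeC
open Cfsg.Agent.Nodes.Comb Cfsg.Agent.Nodes.Reps Cfsg.Agent.Nodes.WittRoot Cfsg.Agent.Nodes.BNOf
open Cfsg.Agent.Nodes.WittRGD Cfsg.Agent.Nodes.RGDLib Cfsg.Agent.Nodes.WittModel Cfsg.Agent.Nodes.WittU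
open Cfsg.Agent.TitsThree Cfsg.Agent.TitsThree.Siegel Cfsg.Agent.TitsThree.SiegelGen
  Cfsg.Agent.TitsThree.WittFrame Cfsg.Agent.TitsThree.WBridge Cfsg.Agent.TitsThree.WittWeyl
  Cfsg.Agent.TitsThree.FrameCN Cfsg.Agent.TitsThree.KSideU Cfsg.Agent.TitsThree.KSideUDesc
open Cfsg.Agent.FixBN.WittNodeA Cfsg.Agent.FixBN.WittNodeB Cfsg.Agent.FixBN.WittNodeC
open Cfsg.Agent.LieClassical.HermBasic Cfsg.Agent.LieClassical.HermGen
open Cfsg.Agent.H234.Fam3 Cfsg.Agent.H234.Rank2C Cfsg.Agent.H234.U3Fix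

theorem not_free_psu {F : Type} [Field F] [Fintype F] {q : ℕ} (hF : Fintype.card F = q ^ 2) {p : ℕ} [Fact p.Prime]
    [CharP F p] (hp2 : p ≠ 2) [IsSimpleGroup (PSU 3 F q)] : ¬ Free p (PSU 3 F q) := by
  have hodd : Odd p := (Fact.out : p.Prime).odd_of_ne_two hp2
  have hfin : Finite (PSU 3 F q) := Quotient.finite _
  have hfinW : Finite (CoxeterMatrix.B 1).Group := finite_W (CoxeterMatrix.B 1).toCoxeterSystem
  obtain ⟨W, d, hd, hW⟩ := exists_wframe_odd hF (show 3 = 2 * 1 + 1 by norm_num)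
  have h2 := two_ne_zero_of_odd (F := F) hodd
  obtain ⟨a0, ha0, hn⟩ := exists_norm_eq_ne hF (c := (-2 : F)) (by
    rw [neg_pow_q hF, show (2 : F) = 1 + 1 by norm_num, add_pow_q hF, one_pow]) (neg_ne_zero.2 h2)
  let σ : F →+* F := ((conj hF : F ≃+* F) : F →+* F)
  have hσ : ∀ x, σ x = x ^ q := fun x => rfl
  have hI : U3Model.Inv2 σ := ⟨fun x => pow_q_pow_q hF x⟩
  have hUF : UF σ := UNode.uf_of_card hF (odd_q hF hodd) σ hσ
  have hd0 : d ∈ W.V0 := by rw [hW]; exact Submodule.mem_span_singleton_self d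
  let p0 : (toFrame W).Adm := ⟨a0 • d, 1, W.V0.smul_mem _ hd0, by
    rw [ok_iff, herm_smul_left, herm_smul_right, hd, mul_one, hn, one_pow]; ring⟩
  have hp0 : p0.c ≠ 0 := one_ne_zero
  let M := KInstU.model hF (show 3 ≤ 3 by norm_num) W
  have hA : Amb (toFrame W) M.I := amb_U hF W
  have R := Nodes.WittModel.rgd M hA hodd hp0 (CoxeterMatrix.B 1).toCoxeterSystem
  have hgen := NodeRGD.gen_of_top R (Nodes.WittModel.G1_eq_top M (by norm_num) (CoxeterMatrix.B 1).toCoxeterSystem)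
  have hi : ¬ ((0 : Fin 1) : ℕ) + 1 < 1 := by norm_num
  -- the parametrisation
  let f : Pt σ → (toFrame W).Adm := fun x => ⟨x.a • d, x.b, W.V0.smul_mem _ hd0, by
    rw [ok_iff, herm_smul_left, herm_smul_right, hd, mul_one]
    have := x.h
    rw [hσ, hσ] at this
    linear_combination this⟩
  have hfm : ∀ x y, f (x * y) = f x * f y := by
    intro x y
    apply Frame.Adm.ext
    · show (x.a + y.a) • d = x.a • d + y.a • d
      rw [add_smul]
    · show x.b + y.b - σ x.a * y.a = x.b + y.b - (1 : F)⁻¹ * hermForm 3 F q (y.a • d) (x.a • d)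
      rw [herm_smul_left, herm_smul_right, hd, hσ, inv_one]
      ring
  have hfs : Function.Surjective f := by
    rintro ⟨w, c, hw, hok'⟩
    obtain ⟨a, rfl⟩ : ∃ a : F, a • d = w := by
      rw [hW] at hw
      exact Submodule.mem_span_singleton.1 hw
    rw [ok_iff, herm_smul_left, herm_smul_right, hd, mul_one] at hok'
    exact ⟨⟨a, c, by rw [hσ, hσ]; linear_combination hok'⟩, rfl⟩
  have hJ : ∀ a, a ≠ 1 → Jm (toFrame W) p0 hp0 (f a) = f (J a) := by
    intro x hx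
    have hb := U3Model.b_ne_zero hx
    apply Frame.Adm.ext
    · rw [Jm_w]
      show ((1 : F)⁻¹ * (1 : F) ^ q * x.b⁻¹) • (x.a • d + ((1 : F)⁻¹ * (1 : F)⁻¹ *
        hermForm 3 F q (x.a • d) (a0 • d)) • (a0 • d)) = (U3Model.J x).a • d
      rw [U3Model.J_a hx, herm_smul_left, herm_smul_right, hd, smul_smul, ← add_smul, smul_smul, one_pow]
      congr 1
      have h3 : x.a * (a0 ^ q * 1) * a0 = -2 * x.a := by linear_combination x.a * hn
      field_simp
      linear_combination h3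
    · rw [Jm_c (toFrame W) p0 hp0 _ hb]
      show (1 : F)⁻¹ * (1 * (1 : F) ^ q) * x.b⁻¹ = (U3Model.J x).b
      rw [U3Model.J_b hx, one_pow]
      field_simp
  have N := WittNodeA.uNode R hgen 0 (fun a => M.Z (0, true) (f a))
    (fun a b => by rw [hfm, Z_mul']) (fun a => (mem_X_last hi).2 ⟨_, rfl⟩)
    (fun u hu => by
      obtain ⟨q', rfl⟩ := (mem_X_last hi).1 hu
      obtain ⟨a, rfl⟩ := hfs q'
      exact ⟨a, rfl⟩)
    (fun a ha => by
      have h1 := Z_eq_one M ha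
      by_contra hne
      exact U3Model.b_ne_zero hne (congrArg (fun z => z.c) h1))
    (fun a ha => by
      have h1 := inv_Z hA hp0 R hi (q := f a) (U3Model.b_ne_zero ha)
      rw [hJ a ha] at h1
      exact h1)
  have hne : (R.bnPair hgen).S.Nonempty := ⟨_, (0 : Fin 1), rfl⟩
  have hS := SplitRGD.split_of_rgd Fact.out R hgen
    (Cfsg.Agent.Tits.OfBN.normalCore_eq_bot (R.bnPair hgen) hne)
  obtain ⟨hN, cs', hcs⟩ := Omega.ML.Ex.Typ.bnType R hgen
  exact not_free_one hp2 hS (Equiv.ofInjective _ R.n_injective) cs' hcs 0 (fun j => Subsingleton.elim _ _)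
    (NodeRGD.node R hgen 0) N hUF

end Unitary

end Cfsg.Agent.TID.X
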