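import Mathlib
import Cfsg.Agent.CpAut.Psl

/-!
# TID: two involutory automorphisms of `PSL₂(q)`, `q` odd (helper30)
-/

set_option autoImplicit false

namespace Cfsg.Agent.TID.X

open Subgroup

/-- a subgroup `C` without elements of order `r`, fixed by two different involutory automorphisms and normalised by the fixed
points of each of them, has no elements of odd prime order -/
def LTwo (r : ℕ) (K : Type*) [Group K] : Prop :=
  ∀ (α β : MulAut K) (C : Subgroup K), α * α = 1 → β * β = 1 → α ≠ 1 → β ≠ 1 → α ≠ β →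
    (∀ c ∈ C, α c = c) → (∀ c ∈ C, β c = c) →
    (∀ g, α g = g → ∀ c ∈ C, g * c * g⁻¹ ∈ C) → (∀ g, β g = g → ∀ c ∈ C, g * c * g⁻¹ ∈ C) →
    (∀ c ∈ C, c ^ r = 1 → c = 1) → ∀ y ∈ C, ∀ s : ℕ, s.Prime → s ≠ 2 → y ^ s = 1 → y = 1

theorem LTwo.of_equiv {r : ℕ} {K L : Type*} [Group K] [Group L] (e : K ≃* L) (h : LTwo r K) : LTwo r L := by
  intro α β C h1 h2 h3 h4 h5 h6 h7 h8 h9 h10 y hy s hs hs2 hys
  have hap : ∀ (γ : MulAut L) (x : K), MulAut.congr e.symm γ x = e.symm (γ (e x)) := fun γ x => rfl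
  have hfix : ∀ γ : MulAut L, (∀ c ∈ C, γ c = c) →
      ∀ c ∈ C.comap e.toMonoidHom, MulAut.congr e.symm γ c = c := by
    intro γ hγ c hc
    rw [hap, hγ (e c) hc, e.symm_apply_apply]
  have hnorm : ∀ γ : MulAut L, (∀ g, γ g = g → ∀ c ∈ C, g * c * g⁻¹ ∈ C) → ∀ g, MulAut.congr e.symm γ g = g →
      ∀ c ∈ C.comap e.toMonoidHom, g * c * g⁻¹ ∈ C.comap e.toMonoidHom := by
    intro γ hγ g hg c hc
    rw [hap, e.symm_apply_eq] at hg
    change e (g * c * g⁻¹) ∈ C
    rw [map_mul, map_mul, map_inv]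
    exact hγ _ hg _ hc
  have h11 := h (MulAut.congr e.symm α) (MulAut.congr e.symm β) (C.comap e.toMonoidHom)
    (by rw [← map_mul, h1, map_one]) (by rw [← map_mul, h2, map_one])
    (fun h => h3 ((map_eq_one_iff _ (MulAut.congr e.symm).injective).1 h))
    (fun h => h4 ((map_eq_one_iff _ (MulAut.congr e.symm).injective).1 h))
    (fun h => h5 ((MulAut.congr e.symm).injective h)) (hfix α h6) (hfix β h7) (hnorm α h8) (hnorm β h9)
    (fun c hc hcr => by
      have h12 := h10 (e c) hc (by rw [← map_pow, hcr, map_one])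
      rwa [map_eq_one_iff _ e.injective] at h12)
    (e.symm y) (by change e (e.symm y) ∈ C; rwa [e.apply_symm_apply]) s hs hs2 (by rw [← map_pow, hys, map_one])
  rwa [map_eq_one_iff _ e.symm.injective] at h11

section PSL

open Matrix
open Cfsg.Agent.ClassicalGeometry.AutPSL.Root
open Cfsg.Agent.ClassicalGeometry.AutPSL.Auto
open Cfsg.Agent.ClassicalGeometry.AutPSL.Main
open Cfsg.Agent.CpAut.Psl

variable {F : Type*} [Field F]

theorem center_sq {z : Matrix.SpecialLinearGroup (Fin 2) F} (hz : z ∈ center (Matrix.SpecialLinearGroup (Fin 2) F)) : z ^ 2 = 1 := by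
  obtain ⟨r, hr, h⟩ := Matrix.SpecialLinearGroup.mem_center_iff.1 hz
  apply Subtype.ext
  change z.1 ^ 2 = 1
  rw [← h, ← map_pow]
  rw [Fintype.card_fin] at hr
  rw [hr, map_one]

theorem exists_odd_lift {y : Matrix.ProjectiveSpecialLinearGroup (Fin 2) F} {s : ℕ} (hs : Odd s) (hy : y ^ s = 1) :
    ∃ x : Matrix.SpecialLinearGroup (Fin 2) F, pr x = y ∧ x ^ s = 1 := by
  obtain ⟨x, rfl⟩ := pr_surjective y
  have h1 : x ^ s ∈ center (Matrix.SpecialLinearGroup (Fin 2) F) := by rw [← pr_eq_one_iff, map_pow, hy]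
  obtain ⟨k, hk⟩ := hs
  refine ⟨x ^ (s + 1), by rw [map_pow, pow_succ, hy, one_mul], ?_⟩
  rw [← pow_mul, mul_comm, pow_mul, show s + 1 = 2 * (k + 1) by omega, pow_mul, center_sq h1, one_pow]

theorem fix_of_lift {e : MulAut (Matrix.SpecialLinearGroup (Fin 2) F)} {x : Matrix.SpecialLinearGroup (Fin 2) F} {s : ℕ}
    (hs : Odd s) (hx : x ^ s = 1) (h : lift e (pr x) = pr x) : e x = x := by
  rw [lift_pr] at h
  obtain ⟨z, hz, hzx⟩ := (QuotientGroup.mk'_eq_mk' _).1 h
  have h1 : Commute (e x) z := mem_center_iff.1 hz _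
  have h2 : (e x * z) ^ s = 1 := by rw [hzx, hx]
  rw [h1.mul_pow, ← map_pow, hx, map_one, one_mul] at h2
  obtain ⟨k, hk⟩ := hs
  rw [hk, pow_succ, pow_mul, center_sq hz, one_pow, one_mul] at h2
  rwa [h2, mul_one] at hzx

theorem par3 {x1 x2 x3 y1 y2 y3 : F} (h12 : x1 * y2 = x2 * y1) (h13 : x1 * y3 = x3 * y1) (h23 : x2 * y3 = x3 * y2)
    (hy : ¬ (y1 = 0 ∧ y2 = 0 ∧ y3 = 0)) : ∃ z, x1 = z * y1 ∧ x2 = z * y2 ∧ x3 = z * y3 := by
  by_cases h1 : y1 = 0
  · by_cases h2 : y2 = 0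
    · have h3 : y3 ≠ 0 := fun h3 => hy ⟨h1, h2, h3⟩
      refine ⟨x3 / y3, ?_, ?_, ?_⟩ <;> field_simp
      · linear_combination h13
      · linear_combination h23
    · refine ⟨x2 / y2, ?_, ?_, ?_⟩ <;> field_simp
      · linear_combination h12
      · linear_combination -h23
  · refine ⟨x1 / y1, ?_, ?_, ?_⟩ <;> field_simp
    · linear_combination -h12
    · linear_combination -h13

theorem scalar_of {A : Matrix (Fin 2) (Fin 2) F} (h1 : A 0 0 = A 1 1) (h2 : A 0 1 = 0) (h3 : A 1 0 = 0) :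
    scalar (Fin 2) (A 0 0) = A := by
  ext i j
  fin_cases i <;> fin_cases j <;> simp [h1, h2, h3]

/-- a matrix which is not scalar and whose square is scalar has trace zero -/
theorem trace_zero {A : Matrix (Fin 2) (Fin 2) F} {r : F} (h : scalar (Fin 2) r = A * A)
    (hA : scalar (Fin 2) (A 0 0) ≠ A) : A 1 1 = -A 0 0 := by
  by_contra hne
  have h0 : A 0 0 + A 1 1 ≠ 0 := fun h0 => hne (by linear_combination h0)
  have e00 := congrFun (congrFun h 0) 0
  have e01 := congrFun (congrFun h 0) 1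
  have e10 := congrFun (congrFun h 1) 0
  have e11 := congrFun (congrFun h 1) 1
  simp [Matrix.mul_apply, Fin.sum_univ_two] at e00 e01 e10 e11
  refine hA (scalar_of ?_ ?_ ?_)
  · refine mul_right_cancel₀ h0 ?_
    linear_combination e11 - e00
  · refine mul_right_cancel₀ h0 ?_
    linear_combination -e01
  · refine mul_right_cancel₀ h0 ?_
    linear_combination -e10

/-- the involutions of `PGL₂` which centralise a non-scalar matrix -/
theorem exists_mult (h2 : (2 : F) ≠ 0) {A : GL (Fin 2) F} {x : Matrix.SpecialLinearGroup (Fin 2) F} (hx : pr x ≠ 1)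
    (h : cj A x = x) (hA : lift (cj A) * lift (cj A) = 1) (hA1 : lift (cj A) ≠ 1) :
    ∃ z : F, (A : Matrix (Fin 2) (Fin 2) F) = z • !![x.1 0 0 - x.1 1 1, 2 * x.1 0 1; 2 * x.1 1 0, x.1 1 1 - x.1 0 0] := by
  have h1 : lift (cj (A * A) * fld (1 : F ≃+* F)) = lift (fld (1 : F ≃+* F)) := by
    rw [map_one, mul_one, map_mul, map_mul, hA, map_one]
  obtain ⟨⟨r, hr⟩, -⟩ := injective_aux h1
  rw [Units.val_mul] at hr
  have h3 := trace_zero hr (fun h3 => hA1 (by rw [cj_eq_one_of_scalar h3, map_one]))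
  have h4 : (A : Matrix (Fin 2) (Fin 2) F) * x.1 = x.1 * (A : Matrix (Fin 2) (Fin 2) F) := by
    have h5 : (A : Matrix (Fin 2) (Fin 2) F) * x.1 * ((A⁻¹ : GL (Fin 2) F) : Matrix (Fin 2) (Fin 2) F) = x.1 :=
      congrArg Subtype.val h
    conv_rhs => rw [← h5]
    rw [Matrix.mul_assoc, ← Units.val_mul, inv_mul_cancel, Units.val_one, Matrix.mul_one]
  have e00 := congrFun (congrFun h4 0) 0
  have e01 := congrFun (congrFun h4 0) 1
  have e10 := congrFun (congrFun h4 1) 0
  simp only [Matrix.mul_apply, Fin.sum_univ_two] at e00 e01 e10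
  rw [h3] at e01 e10
  obtain ⟨z, z1, z2, z3⟩ := par3 (x1 := (A : Matrix (Fin 2) (Fin 2) F) 0 0) (x2 := (A : Matrix (Fin 2) (Fin 2) F) 0 1)
    (x3 := (A : Matrix (Fin 2) (Fin 2) F) 1 0) (y1 := x.1 0 0 - x.1 1 1) (y2 := 2 * x.1 0 1) (y3 := 2 * x.1 1 0)
    (by linear_combination e01) (by linear_combination -e10) (by linear_combination 2 * e00) (by
      rintro ⟨k1, k2, k3⟩
      apply hx
      have k4 := scalar_of (A := x.1) (sub_eq_zero.1 k1) ((mul_eq_zero.1 k2).resolve_left h2)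
        ((mul_eq_zero.1 k3).resolve_left h2)
      have k5 : pr (1 : Matrix.SpecialLinearGroup (Fin 2) F) = pr x := pr_eq_of_smul (c := x.1 0 0) (by
        rw [Matrix.SpecialLinearGroup.coe_one, smul_one_eq_diagonal]
        exact k4.symm)
      rw [← k5, map_one])
  refine ⟨z, ?_⟩
  ext i j
  fin_cases i <;> fin_cases j
  · simpa using z1
  · simpa using z2
  · simpa using z3
  · have : (A : Matrix (Fin 2) (Fin 2) F) 1 1 = z * (x.1 1 1 - x.1 0 0) := by rw [h3, z1]; ring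
    simpa using this

theorem gl_ne_zero (A : GL (Fin 2) F) : (A : Matrix (Fin 2) (Fin 2) F) ≠ 0 := by
  intro h
  have h1 : (A : Matrix (Fin 2) (Fin 2) F) * ((A⁻¹ : GL (Fin 2) F) : Matrix (Fin 2) (Fin 2) F) = 1 := by
    rw [← Units.val_mul, mul_inv_cancel, Units.val_one]
  rw [h, Matrix.zero_mul] at h1
  exact zero_ne_one h1

/-- **Two linear involutions.** -/
theorem lin_eq (h2 : (2 : F) ≠ 0) {A B : GL (Fin 2) F} {x : Matrix.SpecialLinearGroup (Fin 2) F} (hx : pr x ≠ 1)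
    (hAx : cj A x = x) (hA : lift (cj A) * lift (cj A) = 1) (hA1 : lift (cj A) ≠ 1)
    (hBx : cj B x = x) (hB : lift (cj B) * lift (cj B) = 1) (hB1 : lift (cj B) ≠ 1) : cj A = cj B := by
  obtain ⟨a, ha⟩ := exists_mult h2 hx hAx hA hA1
  obtain ⟨b, hb⟩ := exists_mult h2 hx hBx hB hB1
  have hb0 : b ≠ 0 := by
    rintro rfl
    rw [zero_smul] at hb
    exact gl_ne_zero B hb
  have h1 : (A : Matrix (Fin 2) (Fin 2) F) = (a / b) • (B : Matrix (Fin 2) (Fin 2) F) := by
    rw [ha, hb, smul_smul, div_mul_cancel₀ _ hb0]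
  have h3 : cj (A * B⁻¹) = 1 := by
    apply cj_eq_one_of_scalar (r := a / b)
    rw [Units.val_mul, h1, Matrix.smul_mul, ← Units.val_mul, mul_inv_cancel, Units.val_one, smul_one_eq_diagonal,
      scalar_apply]
  rw [map_mul, map_inv] at h3
  exact mul_inv_eq_one.1 h3

/-- the exponent of `SL₂(3)` -/
theorem pow_twelve {K : Type*} [Field K] (hK : ∀ a : K, a = 0 ∨ a ^ 2 = 1) (x : Matrix.SpecialLinearGroup (Fin 2) K) :
    x ^ 12 = 1 := by
  apply Subtype.ext
  change x.1 ^ 12 = 1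
  obtain ⟨t, ht⟩ : ∃ t, t = x.1 0 0 + x.1 1 1 := ⟨_, rfl⟩
  have hd := x.2
  rw [det_fin_two] at hd
  have h1 : x.1 * x.1 = t • x.1 - 1 := by
    ext i j
    fin_cases i <;> fin_cases j <;> simp [Matrix.mul_apply, Fin.sum_univ_two, ht]
    · linear_combination -hd
    · ring
    · ring
    · linear_combination -hd
  rcases hK t with h | h
  · rw [h, zero_smul, zero_sub] at h1
    rw [show 12 = 2 * 6 by norm_num, pow_mul, pow_two, h1]
    exact Even.neg_one_pow (by decide)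
  · have h3 : x.1 ^ 3 = (-t) • (1 : Matrix (Fin 2) (Fin 2) K) := by
      rw [pow_succ, pow_two, h1, sub_mul, smul_mul_assoc, h1, smul_sub, smul_smul, ← pow_two, h, one_smul, one_mul,
        neg_smul]
      abel
    rw [show 12 = 3 * 4 by norm_num, pow_mul, h3, smul_pow, one_pow, show 4 = 2 * 2 by norm_num, pow_mul, neg_sq, h,
      one_pow, one_smul]

theorem tv_pow {K : Type*} [Field K] {i j : Fin 2} (hij : i ≠ j) (b : K) (k : ℕ) :
    (Matrix.SpecialLinearGroup.transvection hij b) ^ k = Matrix.SpecialLinearGroup.transvection hij (k * b) := by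
  induction k with
  | zero => rw [pow_zero, Nat.cast_zero, zero_mul, Matrix.SpecialLinearGroup.transvection_coeff_zero]
  | succ k ih =>
    rw [pow_succ, ih]
    apply Subtype.ext
    change Matrix.transvection i j _ * Matrix.transvection i j _ = Matrix.transvection i j _
    rw [Matrix.transvection_mul_transvection_same _ _ hij]
    congr 1
    push_cast
    ring

/-- **A field involution.** -/
theorem field_case [Finite F] {r : ℕ} [hr : Fact r.Prime] [CharP F r] (h2 : (2 : F) ≠ 0) {A : GL (Fin 2) F}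
    {σ : F ≃+* F} (hσ : σ ≠ 1) (hγ : lift (cj A * fld σ) * lift (cj A * fld σ) = 1)
    {C : Subgroup (Matrix.ProjectiveSpecialLinearGroup (Fin 2) F)}
    (hn : ∀ g, lift (cj A * fld σ) g = g → ∀ c ∈ C, g * c * g⁻¹ ∈ C) (hC : ∀ c ∈ C, c ^ r = 1 → c = 1)
    {x : Matrix.SpecialLinearGroup (Fin 2) F} (hx : pr x ∈ C) {s : ℕ} (hs : s.Prime) (hs2 : s ≠ 2) (hxs : x ^ s = 1)
    (hfix : (cj A * fld σ : MulAut (Matrix.SpecialLinearGroup (Fin 2) F)) x = x) : pr x = 1 := by
  obtain ⟨-, B, hB⟩ := exists_conj Nat.prime_two (by rw [pow_two]; exact hγ) hσ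
  rw [hB] at hn hfix
  have h1 : fld σ ((cj B)⁻¹ x) = (cj B)⁻¹ x := by
    apply (cj B).injective
    rw [MulAut.apply_inv_self]
    exact hfix
  obtain ⟨h, hh⟩ := exists_emb h1
  obtain ⟨θ, hθ⟩ : ∃ θ : Matrix.SpecialLinearGroup (Fin 2) ↥(fixf σ) →* Matrix.ProjectiveSpecialLinearGroup (Fin 2) F,
      ∀ g, θ g = pr (cj B (emb σ g)) := ⟨pr.comp ((cj B).toMonoidHom.comp (emb σ)), fun g => rfl⟩
  have hθh : θ h = pr x := by rw [hθ, hh, MulAut.apply_inv_self]
  have hθ1 : ∀ g, θ g = 1 ↔ emb σ g ∈ center (Matrix.SpecialLinearGroup (Fin 2) F) := by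
    intro g
    rw [hθ, ← lift_pr, map_eq_one_iff _ (lift (cj B)).injective, pr_eq_one_iff]
  have hθc : ∀ z ∈ center (Matrix.SpecialLinearGroup (Fin 2) ↥(fixf σ)), θ z = 1 := by
    intro z hz
    obtain ⟨c, hc, hcz⟩ := Matrix.SpecialLinearGroup.mem_center_iff.1 hz
    rw [hθ1, Matrix.SpecialLinearGroup.mem_center_iff]
    refine ⟨c, by exact_mod_cast congrArg Subtype.val hc, ?_⟩
    ext i j
    rw [coe_emb, ← hcz, scalar_apply, scalar_apply, diagonal_apply, diagonal_apply]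
    split_ifs <;> rfl
  have hθf : ∀ g, lift (cj B * fld σ * (cj B)⁻¹) (θ g) = θ g := by
    intro g
    rw [hθ, lift_pr, MulAut.mul_apply, MulAut.mul_apply, MulAut.inv_apply_self, (sett (Fin 2) σ).fix]
  have hN : (C.comap θ).Normal := ⟨fun n hn' g => by
    rw [mem_comap, map_mul, map_mul, map_inv]
    exact hn _ (hθf g) _ hn'⟩
  by_cases hK : ∃ a : ↥(fixf σ), a ≠ 0 ∧ a ^ 2 ≠ 1
  · have hsimp := Matrix.ProjectiveSpecialLinearGroup.rank_two_simple' hK
    have hN' : ((C.comap θ).map pr).Normal := hN.map _ pr_surjective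
    rcases hN'.eq_bot_or_eq_top with h3 | h3
    · have h4 : pr h ∈ (C.comap θ).map pr := ⟨h, by rw [SetLike.mem_coe, mem_comap, hθh]; exact hx, rfl⟩
      rw [h3, mem_bot, pr_eq_one_iff] at h4
      rw [← hθh]
      exact hθc h h4
    · exfalso
      have h01 : (0 : Fin 2) ≠ 1 := by decide
      have h4 : pr (Matrix.SpecialLinearGroup.transvection h01 (1 : ↥(fixf σ))) ∈ (C.comap θ).map pr := by
        rw [h3]; exact mem_top _
      obtain ⟨n, hn', hnt⟩ := h4
      obtain ⟨z, hz, hzt⟩ := (QuotientGroup.mk'_eq_mk' _).1 hnt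
      have h5 : θ (Matrix.SpecialLinearGroup.transvection h01 (1 : ↥(fixf σ))) ∈ C := by
        rw [← hzt, map_mul, hθc z hz, mul_one]
        exact hn'
      have h6 := hC _ h5 (by
        rw [← map_pow, tv_pow, CharP.cast_eq_zero, zero_mul, Matrix.SpecialLinearGroup.transvection_coeff_zero, map_one])
      rw [hθ1] at h6
      obtain ⟨c, -, hc⟩ := Matrix.SpecialLinearGroup.mem_center_iff.1 h6
      have h7 := congrFun (congrFun hc 0) 1
      rw [coe_emb, Matrix.SpecialLinearGroup.transvection_coe] at h7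
      simp at h7
  · push Not at hK
    have hK' : ∀ a : ↥(fixf σ), a = 0 ∨ a ^ 2 = 1 := fun a => by
      by_cases ha : a = 0
      · exact Or.inl ha
      · exact Or.inr (hK a ha)
    have h3 : (pr x) ^ 12 = 1 := by rw [← hθh, ← map_pow, pow_twelve hK', map_one]
    have h4 : (pr x) ^ s = 1 := by rw [← map_pow, hxs, map_one]
    have h5 : (3 : F) = 0 := by
      rcases hK' 2 with h6 | h6
      · exact absurd (congrArg Subtype.val h6) h2
      · have h7 : (2 : F) ^ 2 = 1 := congrArg Subtype.val h6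
        linear_combination h7
    have h6 : r = 3 := by
      have h7 : ((3 : ℕ) : F) = 0 := by exact_mod_cast h5
      rw [CharP.cast_eq_zero_iff F r] at h7
      exact (Nat.prime_dvd_prime_iff_eq hr.out Nat.prime_three).1 h7
    refine hC _ hx ?_
    rw [h6]
    have h7 := orderOf_dvd_of_pow_eq_one h3
    have h8 := orderOf_dvd_of_pow_eq_one h4
    refine orderOf_dvd_iff_pow_eq_one.1 ?_
    have h9 : (orderOf (pr x)).Coprime 4 := by
      refine Nat.Coprime.coprime_dvd_left h8 ?_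
      exact ((Nat.coprime_primes hs Nat.prime_two).2 hs2).pow_right 2
    exact h9.dvd_of_dvd_mul_right h7

theorem lTwo_psl [Fintype F] {r : ℕ} [hr : Fact r.Prime] [CharP F r] (hr2 : r ≠ 2) :
    LTwo r (Matrix.ProjectiveSpecialLinearGroup (Fin 2) F) := by
  intro α β C h1 h2 h3 h4 h5 h6 h7 h8 h9 h10 y hy s hs hs2 hys
  have hF : (2 : F) ≠ 0 := by
    intro h0
    have h1 : ((2 : ℕ) : F) = 0 := by exact_mod_cast h0
    rw [CharP.cast_eq_zero_iff F r] at h1
    exact hr2 ((Nat.prime_dvd_prime_iff_eq hr.out Nat.prime_two).1 h1)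
  have hodd := hs.odd_of_ne_two hs2
  obtain ⟨x, rfl, hxs⟩ := exists_odd_lift hodd hys
  obtain ⟨A, σ, rfl⟩ := surj_two r α
  obtain ⟨B, τ, rfl⟩ := surj_two r β
  have hA := fix_of_lift hodd hxs (h6 _ hy)
  have hB := fix_of_lift hodd hxs (h7 _ hy)
  by_cases hσ : σ = 1
  · by_cases hτ : τ = 1
    · by_contra hx
      rw [hσ, map_one, mul_one] at h1 h3 h5 hA
      rw [hτ, map_one, mul_one] at h2 h4 h5 hB
      exact h5 (by rw [lin_eq hF hx hA h1 h3 hB h2 h4])
    · exact field_case hF hτ h2 h9 h10 hy hs hs2 hxs hB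
  · exact field_case hF hσ h1 h8 h10 hy hs hs2 hxs hA

end PSL

end Cfsg.Agent.TID.X
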