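import Mathlib
import Cfsg.Agent.TID.X.Basic
import Cfsg.Prelude.Def_Classical
import Cfsg.Agent.H107.SpTr
import Cfsg.Agent.LieClassical.SympCenter

/-!
# TID: an elementary abelian `8` in `PSp_{2m}(q)`, `q` odd (helper30)
-/

set_option autoImplicit false

namespace Cfsg.Agent.TID.X

open Cfsg Subgroup

/-- every elementary abelian `2`-subgroup of order more than four contains an involution whose centraliser has a noncyclic
abelian `p`-subgroup -/
def Eight (p : ℕ) (K : Type*) [Group K] : Prop :=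
  ∀ W : Subgroup K, (∀ w ∈ W, w * w = 1) → 4 < Nat.card W →
    ∃ w ∈ W, w ≠ 1 ∧ ∃ A : Subgroup K, IsMulCommutative A ∧ ¬ IsCyclic A ∧ IsPGroup p A ∧ ∀ a ∈ A, a * w = w * a

theorem Eight.of_equiv {p : ℕ} {K L : Type*} [Group K] [Group L] (e : K ≃* L) (h : Eight p K) : Eight p L := by
  intro W hW h4
  obtain ⟨_, ⟨w, hw, rfl⟩, hw1, A, hA1, hA2, hA3, hA4⟩ := h (W.map e.symm.toMonoidHom) (by
    rintro _ ⟨w, hw, rfl⟩
    rw [← map_mul, hW w hw, map_one]) (by rwa [card_map_of_injective e.symm.injective])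
  refine ⟨w, hw, fun h1 => hw1 (by rw [h1, map_one]), A.map e.toMonoidHom, Subgroup.map_isMulCommutative _ _,
    fun h1 => hA2 ?_, hA3.map _, ?_⟩
  · have f := A.equivMapOfInjective e.toMonoidHom e.injective
    exact isCyclic_of_surjective f.symm f.symm.surjective
  · rintro _ ⟨a, ha, rfl⟩
    have h1 := congrArg e (hA4 a ha)
    simpa using h1

theorem anti {G : Type*} [Group G] {ν x y : G} (hν : ∀ g, g * ν = ν * g) (hν2 : ν * ν = 1) (hx : x * x = ν)
    (hy : y * y = ν) (hxy : x * y * (x * y) = ν) : y * x = x * y * ν := by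
  have h1 : x * (y * x) * y = x * (x * y * ν) * y := by
    calc x * (y * x) * y = x * y * (x * y) := by group
      _ = ν * (ν * ν) := by rw [hxy, hν2, mul_one]
      _ = (x * x) * (y * y) * ν := by rw [hx, hy, mul_assoc]
      _ = x * (x * y) * (y * ν) := by group
      _ = x * (x * y * ν) * y := by rw [hν y]; group
  exact mul_left_cancel (mul_right_cancel h1)

/-- in a double cover some involution of an elementary abelian `8` lifts to an involution -/
theorem exists_lift {G P : Type*} [Group G] [Group P] (π : G →* P) (hπ : Function.Surjective π) {ν : G}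
    (hν : ∀ g, g * ν = ν * g) (hν2 : ν * ν = 1) (hker : ∀ g, π g = 1 → g = 1 ∨ g = ν) {W : Subgroup P}
    (hW : ∀ w ∈ W, w * w = 1) (h4 : 4 < Nat.card W) : ∃ g, π g ∈ W ∧ π g ≠ 1 ∧ g * g = 1 := by
  classical
  by_contra hcon
  push Not at hcon
  have hsq : ∀ g, π g ∈ W → π g ≠ 1 → g * g = ν := fun g h1 h2 =>
    (hker _ (by rw [map_mul]; exact hW _ h1)).resolve_left (hcon g h1 h2)
  have hfin : Finite W := Nat.finite_of_card_ne_zero (by omega)
  have hex : ∀ s : Finset P, s.card ≤ 4 → ∃ g, π g ∈ W ∧ π g ∉ s := by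
    intro s hs
    by_contra h1
    push Not at h1
    have h2 : (W : Set P) ⊆ (s : Set P) := fun w hw => by
      obtain ⟨g, rfl⟩ := hπ w
      exact h1 g hw
    have h3 := Set.ncard_le_ncard h2 s.finite_toSet
    rw [Set.ncard_coe_finset] at h3
    have h5 : (W : Set P).ncard = Nat.card W := (Nat.card_coe_set_eq _).symm
    omega
  have hinv : ∀ a ∈ W, ∀ b, a * b = 1 → b = a := fun a ha b hb => mul_left_cancel (hb.trans (hW a ha).symm)
  obtain ⟨x, hx, hx1⟩ := hex {1} (by simp)
  obtain ⟨y, hy, hy1⟩ := hex {1, π x} (Finset.card_le_two.trans (by norm_num))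
  obtain ⟨z, hz, hz1⟩ := hex {1, π x, π y, π x * π y} Finset.card_le_four
  simp only [Finset.mem_insert, Finset.mem_singleton, not_or] at hx1 hy1 hz1
  have hxx := hsq x hx hx1
  have hyz : π (y * z) ∈ W := by rw [map_mul]; exact mul_mem hy hz
  have e1 := anti hν hν2 hxx (hsq y hy hy1.1) (hsq (x * y) (by rw [map_mul]; exact mul_mem hx hy)
    (by rw [map_mul]; exact fun h => hy1.2 (hinv _ hx _ h)))
  have e2 := anti hν hν2 hxx (hsq z hz hz1.1) (hsq (x * z) (by rw [map_mul]; exact mul_mem hx hz)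
    (by rw [map_mul]; exact fun h => hz1.2.1 (hinv _ hx _ h)))
  have e3 := anti hν hν2 hxx (hsq (y * z) hyz (by rw [map_mul]; exact fun h => hz1.2.2.1 (hinv _ hy _ h)))
    (hsq (x * (y * z)) (by rw [map_mul]; exact mul_mem hx hyz)
    (by rw [map_mul, map_mul, ← mul_assoc]; exact fun h => hz1.2.2.2 (hinv _ (mul_mem hx hy) _ h)))
  have e4 : y * z * x = x * (y * z) := by
    calc y * z * x = y * (z * x) := by group
      _ = (y * x) * z * ν := by rw [e2]; group
      _ = x * y * (ν * z) * ν := by rw [e1]; group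
      _ = x * (y * z) * (ν * ν) := by rw [← hν z]; group
      _ = x * (y * z) := by rw [hν2, mul_one]
  rw [e4] at e3
  have e5 : ν = 1 := left_eq_mul.1 e3
  rw [e5] at hxx
  exact hcon x hx hx1 hxx

section Sp

open Cfsg.Agent.ClassicalGeometry.SympBasic Cfsg.Agent.H107.SpTr Cfsg.Agent.LieClassical.SympCenter

variable {m : ℕ} {F : Type*} [Field F]

local notation "⟪" u ", " v "⟫" => Cfsg.sympForm m F u v

theorem act_of_center {g : Matrix.symplecticGroup (Fin m) F} (hg : g ∈ center (Matrix.symplecticGroup (Fin m) F)) :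
    ∃ a : F, g.1 = a • 1 ∧ ∀ x, act g x = a • x := by
  obtain ⟨a, ha⟩ := (mem_center_iff m g).1 hg
  refine ⟨a, ha, fun x => ?_⟩
  rw [act_def, ha, Matrix.smul_mulVec, Matrix.one_mulVec]

theorem eight_psp [Finite F] (hm : 1 ≤ m) {p : ℕ} [hp : Fact p.Prime] [CharP F p] (hp2 : p ≠ 2) :
    Eight p (PSp m F) := by
  intro W hW h4
  have h2 : (2 : F) ≠ 0 := by
    intro h0
    have h1 : ((2 : ℕ) : F) = 0 := by exact_mod_cast h0
    rw [CharP.cast_eq_zero_iff F p] at h1
    exact hp2 ((Nat.prime_dvd_prime_iff_eq hp.out Nat.prime_two).1 h1)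
  obtain ⟨π, hπ⟩ : ∃ π : Matrix.symplecticGroup (Fin m) F →* PSp m F, π = QuotientGroup.mk' _ := ⟨_, rfl⟩
  have hπ1 : ∀ g, π g = 1 ↔ g ∈ center (Matrix.symplecticGroup (Fin m) F) := fun g => by
    rw [hπ]; exact QuotientGroup.eq_one_iff g
  let ν : Matrix.symplecticGroup (Fin m) F := ⟨(-1 : F) • 1, smul_one_mem m (by ring)⟩
  have hνc : ν ∈ center (Matrix.symplecticGroup (Fin m) F) := (mem_center_iff m ν).2 ⟨-1, rfl⟩
  have hνa : ∀ x, act ν x = -x := fun x => by
    rw [act_def]
    change ((-1 : F) • (1 : Matrix _ _ F)).mulVec x = -x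
    rw [Matrix.smul_mulVec, Matrix.one_mulVec, neg_smul, one_smul]
  obtain ⟨g, hgW, hg1, hgg⟩ := exists_lift π (by rw [hπ]; exact QuotientGroup.mk'_surjective _) (ν := ν)
    (Subgroup.mem_center_iff.1 hνc) (ext_act fun x => by rw [act_mul, hνa, hνa, neg_neg, act_one]) (by
      intro g hg
      obtain ⟨a, ha, hx⟩ := act_of_center ((hπ1 g).1 hg)
      rcases mul_self_eq_one_iff.1 (sq_eq_one_of_smul_mem hm (ha ▸ g.2)) with h1 | h1
      · left
        exact ext_act fun x => by rw [hx, h1, one_smul, act_one]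
      · right
        exact ext_act fun x => by rw [hx, h1, hνa, neg_smul, one_smul]) hW h4
  have hg2 : ∀ x, act g (act g x) = x := fun x => by rw [← act_mul, hgg, act_one]
  obtain ⟨u, hu0, hu⟩ : ∃ u, u ≠ 0 ∧ act g u = u := by
    by_contra hc
    push Not at hc
    apply hg1
    rw [hπ1]
    have h3 : g = ν := ext_act fun x => by
      rw [hνa]
      by_contra h5
      refine hc (x + act g x) (fun h6 => h5 (eq_neg_of_add_eq_zero_right h6)) ?_
      rw [act_add, hg2, add_comm]
    rw [h3]
    exact hνc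
  obtain ⟨v, hv0, hv⟩ : ∃ v, v ≠ 0 ∧ act g v = -v := by
    by_contra hc
    push Not at hc
    apply hg1
    have h3 : g = 1 := ext_act fun x => by
      rw [act_one]
      by_contra h5
      refine hc (x - act g x) (fun h6 => h5 (sub_eq_zero.1 h6).symm) ?_
      rw [act_sub, hg2, neg_sub]
    rw [h3, map_one]
  have huv : ⟪u, v⟫ = 0 := by
    have h3 := form_act g u v
    rw [hu, hv, sympForm_neg_right] at h3
    have h5 : 2 * ⟪u, v⟫ = 0 := by linear_combination -h3
    exact (mul_eq_zero.1 h5).resolve_left h2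
  have hvu : ⟪v, u⟫ = 0 := by rw [sympForm_swap, huv, neg_zero]
  have hcomm : ∀ a b : F, transv v b * transv u a = transv u a * transv v b := by
    intro a b
    have h3 := conj_transv (transv v b) u a
    rw [act_transv, huv, mul_zero, zero_smul, add_zero] at h3
    exact mul_inv_eq_iff_eq_mul.1 h3
  let f : Multiplicative (F × F) →* PSp m F :=
    { toFun := fun c => π (transv u c.toAdd.1 * transv v c.toAdd.2)
      map_one' := by
        change π (transv u 0 * transv v 0) = 1
        rw [transv_zero, transv_zero, mul_one, map_one]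
      map_mul' := fun c d => by
        change π (transv u (c.toAdd.1 + d.toAdd.1) * transv v (c.toAdd.2 + d.toAdd.2)) = _
        rw [← map_mul, ← transv_mul, ← transv_mul]
        congr 1
        calc _ = transv u c.toAdd.1 * (transv u d.toAdd.1 * transv v c.toAdd.2) * transv v d.toAdd.2 := by group
          _ = _ := by rw [← hcomm]; group }
  have hf : Function.Injective f := by
    rw [injective_iff_map_eq_one]
    intro c hc
    obtain ⟨a, -, hx⟩ := act_of_center ((hπ1 _).1 hc)
    have hx' : ∀ x, x + (c.toAdd.2 * ⟪x, v⟫) • v + (c.toAdd.1 * ⟪x, u⟫) • u = a • x := by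
      intro x
      rw [← hx x, act_mul, act_transv, act_transv, sympForm_add_left, sympForm_smul_left, hvu, mul_zero, add_zero]
    have ha : a = 1 := by
      have h3 := hx' u
      rw [huv, sympForm_self, mul_zero, mul_zero, zero_smul, zero_smul, add_zero, add_zero] at h3
      have h5 : (a - 1) • u = 0 := by rw [sub_smul, one_smul, ← h3, sub_self]
      exact sub_eq_zero.1 ((smul_eq_zero.1 h5).resolve_right hu0)
    obtain ⟨x, hxu, hxv⟩ := exists_both_ne_zero hu0 hv0
    have h3 : (c.toAdd.2 * ⟪x, v⟫) • v + (c.toAdd.1 * ⟪x, u⟫) • u = 0 := by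
      have h5 := hx' x
      rw [ha, one_smul, add_assoc] at h5
      exact add_eq_left.1 h5
    have h5 := congrArg (act g) h3
    rw [act_add, act_smul, act_smul, hu, hv, act_zero, smul_neg] at h5
    have h6 : (2 * (c.toAdd.1 * ⟪x, u⟫)) • u = 0 := by
      rw [two_mul, add_smul]
      linear_combination (exp := 1) h3 + h5
    have h7 : (2 * (c.toAdd.2 * ⟪x, v⟫)) • v = 0 := by
      rw [two_mul, add_smul]
      linear_combination (exp := 1) h3 - h5
    have h8 := (mul_eq_zero.1 ((mul_eq_zero.1 ((smul_eq_zero.1 h6).resolve_right hu0)).resolve_left h2)).resolve_right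
      (by rw [sympForm_swap]; exact neg_ne_zero.2 hxu)
    have h9 := (mul_eq_zero.1 ((mul_eq_zero.1 ((smul_eq_zero.1 h7).resolve_right hv0)).resolve_left h2)).resolve_right
      (by rw [sympForm_swap]; exact neg_ne_zero.2 hxv)
    exact Multiplicative.toAdd.injective (Prod.ext h8 h9)
  have hpow : ∀ a ∈ f.range, a ^ p = 1 := by
    rintro _ ⟨c, rfl⟩
    rw [← map_pow]
    have h3 : c ^ p = 1 := by
      apply Multiplicative.toAdd.injective
      rw [toAdd_pow, toAdd_one]
      ext
      · rw [Prod.smul_fst, nsmul_eq_mul, CharP.cast_eq_zero, zero_mul]; rfl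
      · rw [Prod.smul_snd, nsmul_eq_mul, CharP.cast_eq_zero, zero_mul]; rfl
    rw [h3, map_one]
  refine ⟨π g, hgW, hg1, f.range, inferInstance, not_cyclic hpow ?_, fun a => ⟨1, Subtype.ext ?_⟩, ?_⟩
  · rw [← Nat.card_congr (f.ofInjective hf).toEquiv]
    change p < Nat.card (F × F)
    rw [Nat.card_prod]
    have := Fintype.ofFinite F
    obtain ⟨n, -, hn⟩ := FiniteField.card F p
    rw [Nat.card_eq_fintype_card, hn, ← pow_add]
    calc p = p ^ 1 := (pow_one p).symm
      _ < p ^ ((n : ℕ) + n) := Nat.pow_lt_pow_right hp.out.one_lt (by have := n.pos; omega)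
  · rw [pow_one]
    exact hpow a a.2
  · rintro _ ⟨c, rfl⟩
    change π (transv u c.toAdd.1 * transv v c.toAdd.2) * π g = π g * π (transv u c.toAdd.1 * transv v c.toAdd.2)
    rw [← map_mul, ← map_mul]
    congr 1
    have h3 := conj_transv g u c.toAdd.1
    have h5 := conj_transv g v c.toAdd.2
    rw [hu, mul_inv_eq_iff_eq_mul] at h3
    rw [hv, transv_neg, mul_inv_eq_iff_eq_mul] at h5
    rw [mul_assoc, ← h5, ← mul_assoc, ← h3, mul_assoc]

end Sp

end Cfsg.Agent.TID.X
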