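import Mathlib
import Cfsg.Agent.TID.X.FOne
import Cfsg.Agent.TID.X.FreeB
import Cfsg.Agent.TID.X.Sp
import Cfsg.Agent.TID.X.LTwo
import Cfsg.Agent.S0026
import Cfsg.Agent.H234.Rank2T
import Cfsg.Agent.H234.G2
import Cfsg.Agent.H234.Ree
import Cfsg.Agent.LFourB.ClBGen
import Cfsg.Agent.OddOrderLocal.RankOneCyclic

/-!
# TID: the row `KTwo` (helper30)
-/

set_option autoImplicit false

namespace Cfsg.Agent.TID.X

open Cfsg Subgroup Cfsg.Agent.Lib Cfsg.Agent.H234.Fam3 Cfsg.Agent.H234.CentH Cfsg.Agent.LFourB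
open scoped Pointwise commutatorElement

universe u

theorem Free.bad {r : ℕ} {K : Type*} [Group K] (h : Free r K) : Bad r K := by
  obtain ⟨τ, h1, h2⟩ := h
  refine ⟨τ, h1, fun A hA hAp => ?_⟩
  have h3 : Subsingleton A := ⟨fun a b => by
    obtain ⟨k, hk⟩ := hAp a
    obtain ⟨m, hm⟩ := hAp b
    exact Subtype.ext ((h2 a (hA a a.2) k (congrArg Subtype.val hk)).trans
      (h2 b (hA b b.2) m (congrArg Subtype.val hm)).symm)⟩
  infer_instance

/-- **The list.** -/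
theorem list {K : Type*} [Group K] [Finite K] {r : ℕ} [hr : Fact r.Prime] (hr2 : r ≠ 2) (hK : IsLieTypeChar r K)
    (hb : Bad r K) : LTwo r K ∨ (¬ Free r K ∧ (Gen4 K ∨ Eight r K)) := by
  have hs : IsSimpleGroup K := H400.LieSimple.isSimple_of_lie hK
  have htwo : ∀ (F : Type) [Field F] [CharP F r], (2 : F) ≠ 0 := by
    intro F _ _ h0
    have h1 : ((2 : ℕ) : F) = 0 := by exact_mod_cast h0
    rw [CharP.cast_eq_zero_iff F r] at h1
    exact hr2 ((Nat.prime_dvd_prime_iff_eq hr.out Nat.prime_two).1 h1)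
  rcases cases hr2 hK hb with h | h | h | h | h | h
  · obtain ⟨F, i1, i2, i3, n, hn | hn, ⟨e⟩⟩ := h
    · subst hn
      exact Or.inl ((lTwo_psl hr2).of_equiv e.symm)
    · subst hn
      have : IsSimpleGroup (Matrix.ProjectiveSpecialLinearGroup (Fin 3) F) := e.symm.isSimpleGroup
      exact Or.inr ⟨fun h => not_free_psl hr2 (h.of_equiv e), Or.inl ((gen4_psl (htwo F)).of_equiv e.symm)⟩
  · obtain ⟨F, i1, i2, i3, ⟨e⟩⟩ := h
    have : IsSimpleGroup (PSp 2 F) := e.symm.isSimpleGroup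
    exact Or.inr ⟨fun h => not_free_psp hr2 (h.of_equiv e), Or.inr ((eight_psp (by norm_num) hr2).of_equiv e.symm)⟩
  · obtain ⟨F, i1, i2, i3, n, q, hF, hn3, hn5, ⟨e⟩⟩ := h
    have hn : n = 3 ∨ n = 4 ∨ n = 5 := by omega
    rcases hn with rfl | rfl | rfl
    · have : IsSimpleGroup (PSU 3 F q) := e.symm.isSimpleGroup
      have hq : 3 ≤ q := by
        by_contra hq
        have h1 : 1 < Fintype.card F := Fintype.one_lt_card
        obtain ⟨m, -, hm⟩ := FiniteField.card F r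
        have h2 : q = 0 ∨ q = 1 ∨ q = 2 := by omega
        rcases h2 with rfl | rfl | rfl
        · omega
        · omega
        · have h3 : r ∣ 2 ^ 2 := by
            rw [← hF, hm]
            exact dvd_pow_self r m.ne_zero
          exact hr2 ((Nat.prime_dvd_prime_iff_eq hr.out Nat.prime_two).1 (hr.out.dvd_of_dvd_pow h3))
      exact Or.inr ⟨fun h => not_free_psu hF hr2 (h.of_equiv e), Or.inl ((gen4_psu hF (htwo F) hq).of_equiv e.symm)⟩
    · have : IsSimpleGroup (PSU 4 F q) := e.symm.isSimpleGroup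
      exact (H234.Rank2C.psu_four hF hr2 (hb.of_equiv e)).elim
    · have : IsSimpleGroup (PSU 5 F q) := e.symm.isSimpleGroup
      exact (H234.Rank2C.psu_five hF hr2 (hb.of_equiv e)).elim
  · obtain ⟨F, i1, i2, i3, ⟨e⟩⟩ := h
    have : IsSimpleGroup ↥(Lie.chevG2.group F) := e.symm.isSimpleGroup
    exact (H234.G2.chevG2 hr2 (hb.of_equiv e)).elim
  · obtain ⟨F, i1, i2, i3, q, hq, hF, ⟨e⟩⟩ := h
    exact (H234.Rank2T.twD4 hq hF hr2 (hb.of_equiv e)).elim
  · obtain ⟨rfl, h'⟩ := h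
    exact (H234.Ree.not_bad_iso h' hb).elim

variable {X : Type u} [Group X]

/-- `Ω₁(Z(D))` for a `2`-group `D` -/
def OmZ (D : Subgroup X) : Subgroup X where
  carrier := {w | w ∈ D ∧ (∀ d ∈ D, d * w = w * d) ∧ w * w = 1}
  one_mem' := ⟨one_mem _, fun d _ => by rw [mul_one, one_mul], mul_one _⟩
  mul_mem' := fun {a b} ha hb => ⟨mul_mem ha.1 hb.1, fun d hd => by
    rw [← mul_assoc, ha.2.1 d hd, mul_assoc, hb.2.1 d hd, mul_assoc], by
    calc a * b * (a * b) = a * (b * a) * b := by group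
      _ = a * (a * b) * b := by rw [ha.2.1 b hb.1]
      _ = (a * a) * (b * b) := by group
      _ = 1 := by rw [ha.2.2, hb.2.2, mul_one]⟩
  inv_mem' := fun {a} ha => by
    rw [inv_eq_of_mul_eq_one_right ha.2.2]
    exact ha

theorem mem_OmZ {D : Subgroup X} {w : X} : w ∈ OmZ D ↔ w ∈ D ∧ (∀ d ∈ D, d * w = w * d) ∧ w * w = 1 := Iff.rfl

theorem conj_OmZ {D : Subgroup X} {g w : X} (hg : g ∈ normalizer (D : Set X)) (hw : w ∈ OmZ D) :
    g * w * g⁻¹ ∈ OmZ D := by
  refine ⟨conj_mem hg hw.1, fun d hd => ?_, ?_⟩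
  · have h2 := hw.2.1 _ (conj_mem (inv_mem hg) hd)
    calc d * (g * w * g⁻¹) = g * ((g⁻¹ * d * g⁻¹⁻¹) * w) * g⁻¹ := by group
      _ = g * (w * (g⁻¹ * d * g⁻¹⁻¹)) * g⁻¹ := by rw [h2]
      _ = g * w * g⁻¹ * d := by group
  · calc g * w * g⁻¹ * (g * w * g⁻¹) = g * (w * w) * g⁻¹ := by group
      _ = 1 := by rw [hw.2.2]; group

theorem norm_OmZ {D : Subgroup X} : normalizer (D : Set X) ≤ normalizer (OmZ D : Set X) :=
  le_normalizer_iff.2 fun _ hg _ hw => conj_OmZ hg hw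

theorem exists_OmZ [Finite X] {D : Subgroup X} (hD : IsPGroup 2 D) (h1 : D ≠ ⊥) : ∃ z ∈ OmZ D, z ≠ 1 := by
  have : Nontrivial D := (nontrivial_iff_ne_bot D).2 h1
  have h2 := hD.center_nontrivial
  obtain ⟨n, hn, hn'⟩ := (hD.to_subgroup (center D)).nontrivial_iff_card.1 h2
  obtain ⟨z, hz⟩ := exists_prime_orderOf_dvd_card' (G := center D) 2 (by rw [hn']; exact dvd_pow_self 2 hn.ne')
  refine ⟨((z : D) : X), ⟨(z : D).2, fun d hd => congrArg Subtype.val (mem_center_iff.1 z.2 ⟨d, hd⟩), ?_⟩, fun h => ?_⟩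
  · have h3 := pow_orderOf_eq_one z
    rw [hz, pow_two] at h3
    exact congrArg Subtype.val (congrArg Subtype.val h3)
  · have h3 : z = 1 := Subtype.ext (Subtype.ext h)
    rw [h3, orderOf_one] at hz
    omega

theorem exists_notMem {V : Subgroup X} (s : Finset X) (hs : s.card < Nat.card V) : ∃ v ∈ V, v ∉ s := by
  by_contra h1
  push Not at h1
  have h3 := Set.ncard_le_ncard (show (V : Set X) ⊆ (s : Set X) from h1) s.finite_toSet
  rw [Set.ncard_coe_finset] at h3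
  have h5 : (V : Set X).ncard = Nat.card V := (Nat.card_coe_set_eq _).symm
  omega

theorem isPGroup_zpowers {r k : ℕ} {a : X} (ha : a ^ r ^ k = 1) : IsPGroup r (zpowers a) := by
  rintro ⟨_, m, rfl⟩
  refine ⟨k, Subtype.ext ?_⟩
  change (a ^ m) ^ r ^ k = 1
  rw [← zpow_natCast, ← zpow_mul, mul_comm, zpow_mul, zpow_natCast, ha, one_zpow]

theorem conj_fix_iff {S : Subgroup X} [S.Normal] {v : X} {s : S} :
    (MulAut.conjNormal v : MulAut S) s = s ↔ (s : X) * v = v * s := by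
  rw [Subtype.ext_iff, MulAut.conjNormal_apply, mul_inv_eq_iff_eq_mul, eq_comm]

theorem conj_conj {S : Subgroup X} [S.Normal] {v : X} (hv : v * v = 1) (s : S) :
    (MulAut.conjNormal v : MulAut S) ((MulAut.conjNormal v : MulAut S) s) = s := by
  rw [← MulAut.mul_apply, ← map_mul, hv, map_one, MulAut.one_apply]

section Main

variable [Finite X] {r : ℕ} [hr : Fact r.Prime] (hr2 : r ≠ 2) {S D : Subgroup X} (h : AS 2 S D)
  (hS : IsLieTypeChar r S)

include hr2 h hS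

/-- an `r`-element of `S` does not centralise two commuting involutions of `D` -/
theorem f1_pair {x y : X} (hx : x ∈ D) (hy : y ∈ D) (hx2 : x * x = 1) (hy2 : y * y = 1) (hx1 : x ≠ 1) (hy1 : y ≠ 1)
    (hxy : x ≠ y) (hc : x * y = y * x) {a : X} (haS : a ∈ S) {k : ℕ} (ha : a ^ r ^ k = 1) (hax : a * x = x * a)
    (hay : a * y = y * a) : a = 1 := by
  have hcomm : IsMulCommutative (closure ({x, y} : Set X)) := isMulCommutative_closure (by
    rintro a (rfl | rfl) b (rfl | rfl)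
    · rfl
    · exact hc
    · exact hc.symm
    · rfl)
  refine f1_elt (Ne.symm hr2) h hS (V := closure {x, y}) ((closure_le _).2 ?_) (not_cyclic (p := 2) ?_ ?_) haS ha ?_
  · rintro a (rfl | rfl)
    · exact hx
    · exact hy
  · intro v hv
    induction hv using closure_induction with
    | mem a ha =>
      rcases ha with rfl | rfl
      · rw [pow_two, hx2]
      · rw [pow_two, hy2]
    | one => exact one_pow 2
    | mul a b ha hb iha ihb =>
      have h1 : Commute a b := setLike_mul_comm ha hb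
      rw [h1.mul_pow, iha, ihb, mul_one]
    | inv a _ iha => rw [inv_pow, iha, inv_one]
  · rw [← SetLike.coe_sort_coe, Nat.card_coe_set_eq, Set.two_lt_ncard_iff]
    exact ⟨1, x, y, one_mem _, subset_closure (Or.inl rfl), subset_closure (Or.inr rfl), hx1.symm, hy1.symm, hxy⟩
  · have h1 : closure ({x, y} : Set X) ≤ centralizer {a} := by
      rw [closure_le]
      rintro b (rfl | rfl)
      · exact mem_centralizer_singleton_iff.2 hax.symm
      · exact mem_centralizer_singleton_iff.2 hay.symm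
    exact fun v hv => (mem_centralizer_singleton_iff.1 (h1 hv)).symm

theorem f1_OmZ {x y : X} (hx : x ∈ OmZ D) (hy : y ∈ OmZ D) (hx1 : x ≠ 1) (hy1 : y ≠ 1)
    {a : X} (haS : a ∈ S) (ha1 : a ≠ 1) {k : ℕ} (ha : a ^ r ^ k = 1) (hax : a * x = x * a)
    (hay : a * y = y * a) : x = y := by
  by_contra hxy
  exact ha1 (f1_pair hr2 h hS hx.1 hy.1 hx.2.2 hy.2.2 hx1 hy1 hxy (hy.2.1 x hx.1) haS ha hax hay)

/-- **The case `L₂(q)`.** -/
theorem cenP_of_lTwo (hL : LTwo r S) : CenP 2 S D := by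
  classical
  have hn := h.soc.normal
  obtain ⟨V, hVD, hVc, hV, hV2, hV4⟩ := Rk2.exists h.loc.rk
  obtain ⟨v, hv, hv1⟩ := exists_notMem (V := V) {1} (by rw [hV4]; simp)
  obtain ⟨w, hw, hw1⟩ := exists_notMem (V := V) {1, v} (Finset.card_le_two.trans_lt (by rw [hV4]; norm_num))
  simp only [Finset.mem_insert, Finset.mem_singleton, not_or] at hv1 hw1
  have hinj : Function.Injective (MulAut.conjNormal : X →* MulAut S) := by
    rw [injective_iff_map_eq_one]
    intro x hx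
    exact Soc.eq_one h.soc fun s hs => conj_fix_iff.1 (DFunLike.congr_fun hx ⟨s, hs⟩)
  have hfix : ∀ x ∈ V, ∀ c ∈ (centralizer (D : Set X)).subgroupOf S, (MulAut.conjNormal x : MulAut S) c = c :=
    fun x hx c hc => conj_fix_iff.2 (hc x (hVD hx)).symm
  have hnorm : ∀ x ∈ V, x ≠ 1 → ∀ g, (MulAut.conjNormal x : MulAut S) g = g →
      ∀ c ∈ (centralizer (D : Set X)).subgroupOf S, g * c * g⁻¹ ∈ (centralizer (D : Set X)).subgroupOf S := by
    intro x hx hx1 g hg c hc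
    exact (conj_mem (norm_C hn (mem_norm h.loc.ti (hVD hx) hx1 (conj_fix_iff.1 hg))) ⟨c.2, hc⟩).2
  have key := hL (MulAut.conjNormal v) (MulAut.conjNormal w) ((centralizer (D : Set X)).subgroupOf S)
    (by rw [← map_mul, ← pow_two, hV2 v hv, map_one]) (by rw [← map_mul, ← pow_two, hV2 w hw, map_one])
    (fun h1 => hv1 ((map_eq_one_iff _ hinj).1 h1)) (fun h1 => hw1.1 ((map_eq_one_iff _ hinj).1 h1))
    (fun h1 => hw1.2 (hinj h1).symm) (hfix v hv) (hfix w hw) (hnorm v hv hv1) (hnorm w hw hw1.1)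
    (fun c hc hcr => Subtype.ext (f1_elt (Ne.symm hr2) h hS hVD hV c.2 (k := 1)
      (by rw [pow_one]; exact congrArg Subtype.val hcr) fun x hx => (hc x (hVD hx)).symm))
  refine IsPGroup.of_card (Nat.eq_prime_pow_of_unique_prime_dvd Nat.card_pos.ne' fun {s} hs hd => ?_)
  by_contra hs2
  have : Fact s.Prime := ⟨hs⟩
  obtain ⟨y, hy⟩ := exists_prime_orderOf_dvd_card' s hd
  have h1 := key ⟨y, y.2.1⟩ y.2.2 s hs hs2 (Subtype.ext (by
    have h2 := congrArg Subtype.val (pow_orderOf_eq_one y)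
    rw [hy] at h2
    exact h2))
  have h3 : (y : X) = 1 := congrArg Subtype.val h1
  have h2 : y = 1 := Subtype.ext h3
  rw [h2, orderOf_one] at hy
  exact hs.one_lt.ne hy

/-- **`Ω₁(Z(D))` has order two.** -/
theorem free_of_one (h1 : ∀ x ∈ OmZ D, ∀ y ∈ OmZ D, x ≠ 1 → y ≠ 1 → x = y) : Free r S := by
  classical
  have hn := h.soc.normal
  obtain ⟨V, hVD, hVc, hV, hV2, hV4⟩ := Rk2.exists h.loc.rk
  obtain ⟨z, hz, hz1⟩ := exists_OmZ h.loc.pgrp (D := D) (by
    obtain ⟨v, hv, hv1⟩ := exists_ne_one hV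
    exact fun h2 => hv1 (mem_bot.1 (h2 ▸ hVD hv)))
  obtain ⟨t, ht, ht1⟩ := exists_notMem (V := V) {1, z} (Finset.card_le_two.trans_lt (by rw [hV4]; norm_num))
  simp only [Finset.mem_insert, Finset.mem_singleton, not_or] at ht1
  have ht2 : t * t = 1 := by rw [← pow_two, hV2 t ht]
  refine ⟨MulAut.conjNormal t, conj_conj ht2, fun a ha k hk => Subtype.ext ?_⟩
  have h2 := conj_fix_iff.1 ha
  have h3 := h1 _ (conj_OmZ (mem_norm h.loc.ti (hVD ht) ht1.1 h2) hz) z hz (fun h3 => hz1 (by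
    have h4 : z = (a : X)⁻¹ * (a * z * (a : X)⁻¹) * a := by group
    rw [h4, h3]; group)) hz1
  exact f1_pair hr2 h hS (hVD ht) hz.1 ht2 hz.2.2 ht1.1 hz1 ht1.2 (hz.2.1 t (hVD ht)) a.2
    (congrArg Subtype.val hk) h2 (mul_inv_eq_iff_eq_mul.1 h3)

variable {w1 w2 : X} (hw1 : w1 ∈ OmZ D) (hw2 : w2 ∈ OmZ D) (h1 : w1 ≠ 1) (h2 : w2 ≠ 1) (h12 : w1 ≠ w2)

include hw1 hw2 h1 h2 h12

/-- the abelian `r`-subgroups of `N_S(D)` are cyclic -/
theorem cyc {A : Subgroup X} (hAS : A ≤ S) (hAN : A ≤ normalizer (D : Set X)) [IsMulCommutative A]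
    (hA : IsPGroup r A) : IsCyclic A := by
  by_contra hc
  have hW : IsPGroup 2 (OmZ D) := h.loc.pgrp.to_le fun w hw => hw.1
  have hpow : ∀ a ∈ A, ∃ k, a ^ r ^ k = 1 := fun a ha => by
    obtain ⟨k, hk⟩ := hA ⟨a, ha⟩
    exact ⟨k, congrArg Subtype.val hk⟩
  have h3 := S0058.result A (OmZ D) hc (hAN.trans norm_OmZ) (by
    obtain ⟨k, hk⟩ := IsPGroup.iff_card.1 hW
    rw [hk]
    exact (coprime_of_pgroup (Ne.symm hr2) hA).pow_right k)
  have h4 : OmZ D ≤ centralizer (A : Set X) := by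
    rw [← h3]
    refine iSup_le fun a => iSup_le fun ha => ?_
    rintro x ⟨hx, hxa⟩ b hb
    have hxa' : x * a = a * x := mem_centralizer_singleton_iff.1 hxa
    by_cases hx1 : x = 1
    · rw [hx1, mul_one, one_mul]
    · obtain ⟨k, hk⟩ := hpow a ha.1
      have hab : a * b = b * a := setLike_mul_comm ha.1 hb
      have h5 := f1_OmZ hr2 h hS (conj_OmZ (hAN hb) hx) hx (fun h5 => hx1 (by
        have h6 : x = b⁻¹ * (b * x * b⁻¹) * b := by group
        rw [h6, h5]; group)) hx1 (hAS ha.1) ha.2 hk (by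
        calc a * (b * x * b⁻¹) = (a * b) * x * b⁻¹ := by group
          _ = b * (a * x) * b⁻¹ := by rw [hab]; group
          _ = b * x * b⁻¹ * (b * a * b⁻¹) := by rw [← hxa']; group
          _ = b * x * b⁻¹ * a := by rw [← hab]; group) hxa'.symm
      exact mul_inv_eq_iff_eq_mul.1 h5
  obtain ⟨a, ha, ha1⟩ := exists_ne_one hc
  obtain ⟨k, hk⟩ := hpow a ha
  exact h12 (f1_OmZ hr2 h hS hw1 hw2 h1 h2 (hAS ha) ha1 hk (h4 hw1 a ha) (h4 hw2 a ha))

theorem bad_of_two : Bad r S := by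
  have hn := h.soc.normal
  refine ⟨MulAut.conjNormal w1, conj_conj hw1.2.2, fun A hA hAp => ?_⟩
  refine OddOrderLocal.RankOneCyclic.isCyclic_of_pRankLE_one hr2 hAp fun B hB hBr => ?_
  have hinj : Function.Injective (S.subtype.comp A.subtype) := S.subtype_injective.comp A.subtype_injective
  have h3 : IsCyclic (B.map (S.subtype.comp A.subtype)) := by
    refine cyc hr2 h hS hw1 hw2 h1 h2 h12 ?_ ?_ ((hAp.to_subgroup B).map _)
    · rintro _ ⟨b, -, rfl⟩
      exact (b : S).2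
    · rintro _ ⟨b, -, rfl⟩
      exact mem_norm h.loc.ti hw1.1 h1 (conj_fix_iff.1 (hA b b.2))
  by_contra hlt
  refine not_cyclic (p := r) ?_ ?_ h3
  · rintro _ ⟨b, hb, rfl⟩
    rw [← map_pow, hBr b hb, map_one]
  · rw [card_map_of_injective hinj]
    rw [pow_one] at hlt
    exact not_le.1 hlt

theorem not_two (hf : ¬ Free r S) (hG : Gen4 S ∨ Eight r S) : False := by
  classical
  have hn := h.soc.normal
  have hex : ∀ w ∈ OmZ D, ∃ a ∈ S, a ≠ 1 ∧ a * w = w * a ∧ ∃ k, a ^ r ^ k = 1 := by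
    intro w hw
    by_contra hc
    push Not at hc
    refine hf ⟨MulAut.conjNormal w, conj_conj hw.2.2, fun a ha k hk => ?_⟩
    by_contra ha1
    exact hc a a.2 (fun h3 => ha1 (Subtype.ext h3)) (conj_fix_iff.1 ha) k (congrArg Subtype.val hk)
  -- an involution of `Ω₁(Z(D))` in `S`
  obtain ⟨a, haS, ha1, haw, k, hk⟩ := hex w1 hw1
  have haN := mem_norm h.loc.ti hw1.1 h1 haw
  have hfix : ∀ x ∈ OmZ D, x ≠ 1 → a * x * a⁻¹ = x → x = w1 := fun x hx hx1 hax =>
    f1_OmZ hr2 h hS hx hw1 hx1 h1 haS ha1 hk (mul_inv_eq_iff_eq_mul.1 hax) haw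
  have hx1 := conj_OmZ haN hw2
  have hne1 : a * w2 * a⁻¹ ≠ w2 := fun h3 => h12 (hfix w2 hw2 h2 h3).symm
  have hs : w2⁻¹ * (a * w2 * a⁻¹) ∈ OmZ D := mul_mem (inv_mem hw2) hx1
  have hsS : w2⁻¹ * (a * w2 * a⁻¹) ∈ S := by
    have h3 : w2⁻¹ * (a * w2 * a⁻¹) = w2⁻¹ * a * w2⁻¹⁻¹ * a⁻¹ := by group
    rw [h3]
    exact mul_mem (hn.conj_mem a haS _) (inv_mem haS)
  have hs1 : w2⁻¹ * (a * w2 * a⁻¹) ≠ 1 := fun h3 => hne1 (inv_mul_eq_one.1 h3).symm
  -- `Ω₁(Z(D)) ≤ S`
  have hWS : OmZ D ≤ S := by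
    obtain ⟨b, hbS, hb1, hbw, m, hm⟩ := hex _ hs
    have hW : IsPGroup 2 (OmZ D) := h.loc.pgrp.to_le fun w hw => hw.1
    have h3 := S0026.result (zpowers b) (OmZ D)
      ((zpowers_le.2 (mem_norm h.loc.ti hs.1 hs1 hbw)).trans norm_OmZ) (by
        obtain ⟨k, hk⟩ := IsPGroup.iff_card.1 hW
        rw [hk]
        exact (coprime_of_pgroup (Ne.symm hr2) (isPGroup_zpowers hm)).pow_right k) (Or.inl inferInstance)
    rw [← h3]
    refine sup_le ((commutator_mono le_top (zpowers_le.2 hbS)).trans (commutator_le_right _ _)) ?_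
    rintro x ⟨hx, hxb⟩
    by_cases hx1 : x = 1
    · rw [hx1]; exact one_mem _
    · rw [f1_OmZ hr2 h hS hx hs hx1 hs1 hbS hb1 hm (hxb b (mem_zpowers b)) hbw]
      exact hsS
  rcases hG with hG | hG
  · have h3 := hG ⟨w1, hWS hw1⟩ ⟨w2, hWS hw2⟩ (Subtype.ext hw1.2.2) (Subtype.ext hw2.2.2)
      (fun h3 => h1 (congrArg Subtype.val h3)) (fun h3 => h2 (congrArg Subtype.val h3))
      (fun h3 => h12 (congrArg Subtype.val h3)) (Subtype.ext (hw2.2.1 w1 hw1.1))
      ((normalizer (D : Set X)).subgroupOf S)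
      (fun g hg => mem_norm h.loc.ti hw1.1 h1 (congrArg Subtype.val (mem_centralizer_singleton_iff.1 hg)))
      (fun g hg => mem_norm h.loc.ti hw2.1 h2 (congrArg Subtype.val (mem_centralizer_singleton_iff.1 hg)))
    exact AS.not_le h (subgroupOf_eq_top.1 h3)
  · have hx2 := conj_OmZ haN hx1
    have hcj : ∀ x y : X, a * x * a⁻¹ = a * y * a⁻¹ → x = y := fun x y h3 => mul_left_cancel (mul_right_cancel h3)
    have hw : a * w1 * a⁻¹ = w1 := mul_inv_eq_iff_eq_mul.2 haw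
    have e1 : a * w2 * a⁻¹ ≠ 1 := fun h3 => h2 (hcj _ _ (by rw [h3]; group))
    have e2 : a * w2 * a⁻¹ ≠ w1 := fun h3 => h12 (hcj _ _ (by rw [h3, hw]))
    have e3 : a * (a * w2 * a⁻¹) * a⁻¹ ≠ 1 := fun h3 => e1 (hcj _ _ (by rw [h3]; group))
    have e4 : a * (a * w2 * a⁻¹) * a⁻¹ ≠ w1 := fun h3 => e2 (hcj _ _ (by rw [h3, hw]))
    have e5 : a * (a * w2 * a⁻¹) * a⁻¹ ≠ a * w2 * a⁻¹ := fun h3 => hne1 (hcj _ _ h3)
    have e6 : a * (a * w2 * a⁻¹) * a⁻¹ ≠ w2 := by
      intro h3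
      have h4 : Commute (a ^ 2) w2 := by
        have h5 : a ^ 2 * w2 = (a * (a * w2 * a⁻¹) * a⁻¹) * a ^ 2 := by rw [pow_two]; group
        rw [h3] at h5
        exact h5
      obtain ⟨m, hm⟩ : Odd (r ^ k) := (hr.out.odd_of_ne_two hr2).pow
      have h5 : a = (a ^ 2) ^ (m + 1) := by
        rw [← pow_mul, show 2 * (m + 1) = r ^ k + 1 by omega, pow_succ, hk, one_mul]
      have h6 : Commute a w2 := by rw [h5]; exact h4.pow_left _
      exact hne1 (mul_inv_eq_iff_eq_mul.2 h6)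
    have hcard : 4 < Nat.card (OmZ D) := by
      rw [← SetLike.coe_sort_coe, Nat.card_coe_set_eq]
      have h3 : (({1, w1, w2, a * w2 * a⁻¹, a * (a * w2 * a⁻¹) * a⁻¹} : Finset X) : Set X) ⊆ (OmZ D : Set X) := by
        intro x hx
        simp only [Finset.coe_insert, Finset.coe_singleton, Set.mem_insert_iff, Set.mem_singleton_iff] at hx
        rcases hx with rfl | rfl | rfl | rfl | rfl
        · exact one_mem _
        · exact hw1
        · exact hw2
        · exact hx1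
        · exact hx2
      have h4 := Set.ncard_le_ncard h3
      rw [Set.ncard_coe_finset, Finset.card_insert_of_notMem (by simp [h1.symm, h2.symm, e1.symm, e3.symm]),
        Finset.card_insert_of_notMem (by simp [h12, e2.symm, e4.symm]),
        Finset.card_insert_of_notMem (by simp [hne1.symm, e6.symm]),
        Finset.card_pair e5.symm] at h4
      omega
    obtain ⟨w, hw', hw1', A, hA1, hA2, hA3, hA4⟩ := hG ((OmZ D).subgroupOf S) (fun w hw => Subtype.ext hw.2.2)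
      (by rwa [Nat.card_congr (subgroupOfEquivOfLe hWS).toEquiv])
    have h3 : IsCyclic (A.map S.subtype) := by
      refine cyc hr2 h hS hw1 hw2 h1 h2 h12 (map_subtype_le _) ?_ (hA3.map _)
      rintro _ ⟨b, hb, rfl⟩
      exact mem_norm h.loc.ti hw'.1 (fun h3 => hw1' (Subtype.ext h3)) (congrArg Subtype.val (hA4 b hb))
    have f := A.equivMapOfInjective S.subtype S.subtype_injective
    exact hA2 (isCyclic_of_surjective f.symm f.symm.surjective)

omit hw1 hw2 h1 h2 h12 in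
/-- **Odd characteristic, `p = 2`.** -/
theorem cenP_two : CenP 2 S D := by
  by_cases hW : ∀ x ∈ OmZ D, ∀ y ∈ OmZ D, x ≠ 1 → y ≠ 1 → x = y
  · have hf := free_of_one hr2 h hS hW
    rcases list hr2 hS hf.bad with hL | hL
    · exact cenP_of_lTwo hr2 h hS hL
    · exact absurd hf hL.1
  · push Not at hW
    obtain ⟨x, hx, y, hy, hx1, hy1, hxy⟩ := hW
    rcases list hr2 hS (bad_of_two hr2 h hS hx hy hx1 hy1 hxy) with hL | hL
    · exact cenP_of_lTwo hr2 h hS hL
    · exact (not_two hr2 h hS hx hy hx1 hy1 hxy hL.1 hL.2).elim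

end Main

/-- **The row `KTwo`.** -/
theorem kTwo : KTwo.{u} := by
  intro p _ X _ _ S D h hΦ
  obtain ⟨rfl, r, hr, hr2, hS⟩ := hΦ
  have : Fact r.Prime := ⟨hr⟩
  exact out_of_cenP h (cenP_two hr2 h hS)

end Cfsg.Agent.TID.X
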